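/-
Small unitary spaces: isotropic vectors, root elements fixing an isotropic vector, and moves by transvections.
-/
import Cfsg.Agent.Lib.Transvec.UnitaryGen
import Cfsg.Agent.Lib.Transvec.UnitarySub

set_option autoImplicit false
set_option linter.unusedSectionVars false
set_option linter.unusedSimpArgs false

namespace CfsgLib.Classical22.TensorMax.UnitT

open Matrix CfsgLib.Transvec CfsgLib.Transvec.Unitary
open scoped MatrixGroups

variable {ι : Type} [Fintype ι] [DecidableEq ι] {F : Type*} [Field F] [Finite F]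
variable {σ : F ≃+* F} {f : (ι → F) → (ι → F) → F}

/-- The group element of an endomorphism preserving a non-degenerate form. -/
noncomputable def glIso (hf : Cfsg.Geo.IsUnitaryForm σ f) (L : (ι → F) →ₗ[F] (ι → F))
    (hL : ∀ x y, f (L x) (L y) = f x y) : GL ι F :=
  have hinj : Function.Injective L := (injective_iff_map_eq_zero L).2 fun x hx => by
    by_contra hne
    obtain ⟨y, hy⟩ := (hf.nondegenerate x hne).2
    exact hy (by rw [← hL, hx, zero_left' hf])
  have hu : IsUnit (LinearMap.toMatrix' L) := Matrix.mulVec_injective_iff_isUnit.mp fun x y hxy => by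
    simp only [LinearMap.toMatrix'_mulVec] at hxy
    exact hinj hxy
  hu.unit

omit [Finite F] in
theorem glIso_mulVec (hf : Cfsg.Geo.IsUnitaryForm σ f) (L : (ι → F) →ₗ[F] (ι → F))
    (hL : ∀ x y, f (L x) (L y) = f x y) (x : ι → F) : (glIso hf L hL).val *ᵥ x = L x := by
  rw [glIso, IsUnit.unit_spec, LinearMap.toMatrix'_mulVec]

/-- A unipotent element has determinant one. -/
theorem det_eq_one_of_nilpotent {g : GL ι F} (h : IsNilpotent (g.val - 1)) : g.val.det = 1 := by
  obtain ⟨p, hp⟩ := CharP.exists F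
  haveI : Fact p.Prime := ⟨CharP.char_is_prime F p⟩
  obtain ⟨k, hk⟩ := h
  cases isEmpty_or_nonempty ι
  · exact Matrix.det_isEmpty
  haveI : CharP (Matrix ι ι F) p := Matrix.charP p
  have h1 : g.val ^ p ^ k = 1 := by
    rw [← sub_eq_zero]
    have e := sub_pow_char_pow_of_commute p k (Commute.one_right g.val)
    rw [one_pow] at e
    rw [← e]
    exact pow_eq_zero_of_le (Nat.lt_pow_self (Fact.out : p.Prime).one_lt).le hk
  have h2 := congrArg Matrix.det h1
  rw [det_pow, det_one] at h2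
  haveI : ExpChar F p := ExpChar.prime Fact.out
  exact iterateFrobenius_inj F p k (by rw [map_one, iterateFrobenius_def, h2])

variable (hf : Cfsg.Geo.IsUnitaryForm σ f)
include hf

/-- Prescribed product with a given non-zero vector. -/
theorem exists_dual {v : ι → F} (hv : v ≠ 0) (c : F) : ∃ x, f x v = c := by
  obtain ⟨x, hx⟩ := (hf.nondegenerate v hv).1
  exact ⟨(c / f x v) • x, by rw [hf.smul_left, div_mul_cancel₀ _ hx]⟩

/-- A unitary space of dimension at least two has a non-zero isotropic vector. -/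
theorem exists_iso (hd : 2 ≤ Fintype.card ι) : ∃ u, u ≠ 0 ∧ f u u = 0 := by
  classical
  obtain ⟨i⟩ : Nonempty ι := Fintype.card_pos_iff.1 (by omega)
  obtain ⟨x, hx⟩ : ∃ x : ι → F, x ≠ 0 := ⟨Pi.single i 1, by simp⟩
  by_cases hxx : f x x = 0
  · exact ⟨x, hx, hxx⟩
  obtain ⟨y, hy, hy0⟩ := (LinearMap.ker (linL hf x)).exists_mem_ne_zero_of_ne_bot fun h => by
    have h1 := LinearMap.finrank_range_add_finrank_ker (linL hf x)
    have h2 := Submodule.finrank_le (LinearMap.range (linL hf x))
    rw [h, finrank_bot, Module.finrank_fintype_fun_eq_card] at h1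
    rw [Module.finrank_self] at h2
    omega
  have hyx : f y x = 0 := LinearMap.mem_ker.1 hy
  by_cases hyy : f y y = 0
  · exact ⟨y, hy0, hyy⟩
  obtain ⟨k, hk⟩ := exists_norm_eq hf.ne_refl hf.involutive (b := -(f x x) / f y y)
    (by rw [map_div₀, map_neg, self_fixed hf, self_fixed hf])
  rw [eq_div_iff hyy] at hk
  refine ⟨x + k • y, fun h => hxx ?_, ?_⟩
  · have e := congrArg (fun z => f z x) h
    simpa [hf.add_left, hf.smul_left, hyx, zero_left' hf] using e
  · simp only [hf.add_left, hf.smul_left, Unitary.add_right' hf, smul_right' hf, hyx, (eq_zero_comm hf).1 hyx]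
    linear_combination hk

/-- Adding a multiple of `u` makes a vector isotropic. -/
theorem exists_iso_shift {u x : ι → F} (hu : f u u = 0) (hxu : f x u ≠ 0) :
    ∃ k : F, f (x + k • u) (x + k • u) = 0 := by
  obtain ⟨t, ht⟩ := exists_trace_eq hf.ne_refl hf.involutive (b := -f x x) (by rw [map_neg, self_fixed hf])
  have hux : f u x ≠ 0 := fun h => hxu ((eq_zero_comm hf).1 h)
  refine ⟨t / f u x, ?_⟩
  have h1 : t / f u x * f u x = t := div_mul_cancel₀ _ hux
  have h2 : σ (t / f u x) * f x u = σ t := by rw [hf.herm x u, ← map_mul, h1]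
  simp only [hf.add_left, hf.smul_left, Unitary.add_right' hf, smul_right' hf, hu]
  linear_combination h1 + h2 + ht

/-- An isotropic partner. -/
theorem exists_partner {u : ι → F} (hu0 : u ≠ 0) (hu : f u u = 0) :
    ∃ u', f u' u' = 0 ∧ f u' u = 1 ∧ f u u' = 1 := by
  obtain ⟨x, hx⟩ := exists_dual hf hu0 1
  obtain ⟨k, hk⟩ := exists_iso_shift hf hu (x := x) (by rw [hx]; exact one_ne_zero)
  have h : f (x + k • u) u = 1 := by rw [hf.add_left, hf.smul_left, hx, hu]; ring
  exact ⟨_, hk, h, by rw [hf.herm, h, map_one]⟩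

/-- The isotropic vectors span. -/
theorem span_iso (hd : 2 ≤ Fintype.card ι) (x : ι → F) : x ∈ Submodule.span F {v | f v v = 0} := by
  obtain ⟨u, hu0, hu⟩ := exists_iso hf hd
  have key : ∀ y, f y u ≠ 0 → y ∈ Submodule.span F {v | f v v = 0} := fun y hy => by
    obtain ⟨k, hk⟩ := exists_iso_shift hf hu hy
    have := Submodule.sub_mem _ (Submodule.subset_span (R := F) (show y + k • u ∈ {v | f v v = 0} from hk))
      (Submodule.smul_mem _ k (Submodule.subset_span (show u ∈ {v | f v v = 0} from hu)))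
    rwa [add_sub_cancel_right] at this
  by_cases hxu : f x u = 0
  · obtain ⟨u', hu'u', hu'u, -⟩ := exists_partner hf hu0 hu
    have h1 := key (x + u') (by rw [hf.add_left, hxu, hu'u, zero_add]; exact one_ne_zero)
    have h2 : u' ∈ Submodule.span F {v | f v v = 0} := Submodule.subset_span hu'u'
    simpa using Submodule.sub_mem _ h1 h2
  · exact key x hxu

/-- An isotropic vector pairing with a given one. -/
theorem exists_iso_ne (hd : 2 ≤ Fintype.card ι) {v : ι → F} (hv : v ≠ 0) : ∃ z, f z z = 0 ∧ f z v ≠ 0 := by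
  by_contra h
  push Not at h
  obtain ⟨x, hx⟩ := exists_dual hf hv 1
  have hle : Submodule.span F {z | f z z = 0} ≤ LinearMap.ker (linL hf v) := Submodule.span_le.2 fun z hz => h z hz
  have := LinearMap.mem_ker.1 (hle (span_iso hf hd x))
  exact one_ne_zero (hx.symm.trans this)

/-- An isotropic vector pairing with two given ones. -/
theorem exists_iso_ne_two (hd : 2 ≤ Fintype.card ι) {a b : ι → F} (ha : a ≠ 0) (hb : b ≠ 0) :
    ∃ z, f z z = 0 ∧ f z a ≠ 0 ∧ f z b ≠ 0 := by
  obtain ⟨z1, h1, h1a⟩ := exists_iso_ne hf hd ha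
  by_cases h1b : f z1 b = 0
  swap
  · exact ⟨z1, h1, h1a, h1b⟩
  obtain ⟨z2, h2, h2b⟩ := exists_iso_ne hf hd hb
  by_cases h2a : f z2 a = 0
  swap
  · exact ⟨z2, h2, h2a, h2b⟩
  by_cases h12 : f z1 z2 = 0
  · refine ⟨z1 + z2, ?_, ?_, ?_⟩
    · simp only [hf.add_left, Unitary.add_right' hf, h1, h2, h12, (eq_zero_comm hf).1 h12, add_zero]
    · rw [hf.add_left, h2a, add_zero]; exact h1a
    · rw [hf.add_left, h1b, zero_add]; exact h2b
  obtain ⟨c, hc0, hc⟩ := exists_skew hf.ne_refl hf.involutive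
  have h21 : f z2 z1 ≠ 0 := fun h => h12 ((eq_zero_comm hf).1 h)
  obtain ⟨k, hk⟩ : ∃ k, k = c / f z2 z1 := ⟨_, rfl⟩
  have e1 : k * f z2 z1 = c := by rw [hk, div_mul_cancel₀ _ h21]
  have e2 : σ k * f z1 z2 = σ c := by rw [← e1, map_mul, ← hf.herm]
  refine ⟨z1 + k • z2, ?_, ?_, ?_⟩
  · simp only [hf.add_left, hf.smul_left, Unitary.add_right' hf, smul_right' hf, h1, h2]
    linear_combination e1 + e2 + hc
  · rw [hf.add_left, hf.smul_left, h2a, mul_zero, add_zero]; exact h1a
  · rw [hf.add_left, hf.smul_left, h1b, zero_add]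
    exact mul_ne_zero (hk ▸ div_ne_zero hc0 h21) h2b

/-- The root map at `u` along `w`. -/
def eichL (u w : ι → F) (ν : F) : (ι → F) →ₗ[F] (ι → F) :=
  LinearMap.id + (linL hf u).smulRight w - (linL hf w).smulRight u + ν • (linL hf u).smulRight u

theorem eichL_apply (u w : ι → F) (ν : F) (x : ι → F) :
    eichL hf u w ν x = x + f x u • w - f x w • u + (ν * f x u) • u := by
  simp [eichL, linL, smul_smul]

theorem eichL_form {u w : ι → F} {ν : F} (hu : f u u = 0) (hwu : f w u = 0) (hν : ν + σ ν + f w w = 0)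
    (x y : ι → F) : f (eichL hf u w ν x) (eichL hf u w ν y) = f x y := by
  simp only [eichL_apply, hf.add_left, hf.smul_left, sub_left' hf, Unitary.add_right' hf, sub_right' hf,
    smul_right' hf, map_mul, hu, hwu, (eq_zero_comm hf).1 hwu, ← hf.herm]
  linear_combination (f x u * f u y) * hν

/-- The root element at `u` along `w`. -/
noncomputable def eich {u w : ι → F} {ν : F} (hu : f u u = 0) (hwu : f w u = 0)
    (hν : ν + σ ν + f w w = 0) : GL ι F :=
  glIso hf (eichL hf u w ν) (eichL_form hf hu hwu hν)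

theorem eich_mulVec {u w : ι → F} {ν : F} (hu : f u u = 0) (hwu : f w u = 0) (hν : ν + σ ν + f w w = 0)
    (x : ι → F) : (eich hf hu hwu hν).val *ᵥ x = x + f x u • w - f x w • u + (ν * f x u) • u := by
  rw [eich, glIso_mulVec, eichL_apply]

theorem iso_eich {u w : ι → F} {ν : F} (hu : f u u = 0) (hwu : f w u = 0) (hν : ν + σ ν + f w w = 0) :
    Iso f (eich hf hu hwu hν) := fun x y => by
  rw [eich, glIso_mulVec, glIso_mulVec, eichL_form hf hu hwu hν]

theorem det_eich {u w : ι → F} {ν : F} (hu : f u u = 0) (hwu : f w u = 0) (hν : ν + σ ν + f w w = 0) :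
    (eich hf hu hwu hν).val.det = 1 := by
  refine det_eq_one_of_nilpotent ⟨3, Matrix.ext_iff_mulVec.2 fun x => ?_⟩
  have huw := (eq_zero_comm hf).1 hwu
  simp only [pow_succ, pow_zero, one_mul, ← mulVec_mulVec, sub_mulVec, one_mulVec, zero_mulVec,
    eich_mulVec hf hu hwu hν, mulVec_sub, mulVec_add, mulVec_smul, hf.add_left, hf.smul_left, sub_left' hf, hu,
    hwu, huw]
  module

/-- Any scalar making the root element an isometry. -/
theorem exists_eich_scalar (w : ι → F) : ∃ ν : F, ν + σ ν + f w w = 0 := by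
  obtain ⟨ν, hν⟩ := exists_trace_eq hf.ne_refl hf.involutive (b := -f w w) (by rw [map_neg, self_fixed hf])
  exact ⟨ν, by linear_combination hν⟩

/-- Scaling an isotropic vector by a fixed scalar, inside the transvection group. -/
theorem exists_scale_iso {u : ι → F} (hu0 : u ≠ 0) (hu : f u u = 0) {r : F} (hr : σ r = r) (hr0 : r ≠ 0) :
    ∃ g ∈ transvGroup σ f, g.val *ᵥ u = r • u := by
  obtain ⟨u', hu', h1, h1'⟩ := exists_partner hf hu0 hu
  obtain ⟨s, hs0, hs⟩ := exists_skew hf.ne_refl hf.involutive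
  have hσs : σ s = -s := by linear_combination hs
  have step : ∀ {u u' : ι → F}, f u u = 0 → f u' u' = 0 → f u u' = 1 → f u' u = 1 → ∀ c : F, σ c = -c → c ≠ 0 →
      ∃ g ∈ transvGroup σ f, g.val *ᵥ u = c • u' := by
    intro u u' hu hu' h h' c hc hc0
    obtain ⟨a, ha⟩ : ∃ a, a = -c⁻¹ := ⟨_, rfl⟩
    have hσa : σ a = -a := by rw [ha, map_neg, map_inv₀, hc, inv_neg]
    have hw : f (a • u + u') (a • u + u') = 0 := by
      simp only [hf.add_left, hf.smul_left, Unitary.add_right' hf, smul_right' hf, hu, hu', h, h', hσa]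
      ring
    refine ⟨_, uT_mem hf hw (c := c) (by rw [hc, add_neg_cancel]), ?_⟩
    rw [uT_mulVec hf hw, Unitary.add_right' hf, smul_right' hf, hu, h, mul_zero, zero_add, mul_one, smul_add,
      smul_smul, ha, mul_neg, mul_inv_cancel₀ hc0, neg_one_smul, ← add_assoc, add_neg_cancel, zero_add]
  obtain ⟨g, hg, hgu⟩ := step hu hu' h1' h1 s hσs hs0
  obtain ⟨g', hg', hgu'⟩ := step hu' hu h1 h1' (r / s) (by rw [map_div₀, hr, hσs, div_neg]) (div_ne_zero hr0 hs0)
  exact ⟨g' * g, mul_mem hg' hg, by rw [mul_mulVec, hgu, mulVec_smul, hgu', smul_smul, mul_div_cancel₀ _ hs0]⟩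

/-- The transvections move an isotropic vector to a multiple of any other. -/
theorem exists_move_iso (hd : 2 ≤ Fintype.card ι) {u u' : ι → F} (hu0 : u ≠ 0) (hu0' : u' ≠ 0)
    (hu : f u u = 0) (hu' : f u' u' = 0) :
    ∃ g ∈ transvGroup σ f, ∃ k : F, k ≠ 0 ∧ g.val *ᵥ u = k • u' := by
  have step : ∀ {u u' : ι → F}, f u u = 0 → f u' u' = 0 → f u u' ≠ 0 →
      ∃ g ∈ transvGroup σ f, ∃ k : F, k ≠ 0 ∧ g.val *ᵥ u = k • u' := by
    intro u u' hu hu' hne
    obtain ⟨s, hs0, hs⟩ := exists_skew hf.ne_refl hf.involutive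
    obtain ⟨η, hη⟩ : ∃ η, η = f u u' := ⟨_, rfl⟩
    obtain ⟨a, ha⟩ : ∃ a, a = s / η := ⟨_, rfl⟩
    have hη0 : η ≠ 0 := hη ▸ hne
    have e1 : a * η = s := by rw [ha, div_mul_cancel₀ _ hη0]
    have e2 : σ a * σ η = σ s := by rw [← map_mul, e1]
    have hw : f (a • u + u') (a • u + u') = 0 := by
      simp only [hf.add_left, hf.smul_left, Unitary.add_right' hf, smul_right' hf, hu, hu', hf.herm u' u, ← hη]
      linear_combination e1 + e2 + hs
    have ht : -s⁻¹ + σ (-s⁻¹) = 0 := by
      rw [map_neg, map_inv₀, show σ s = -s by linear_combination hs, inv_neg]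
      ring
    refine ⟨_, uT_mem hf hw ht, -s⁻¹ * η, mul_ne_zero (neg_ne_zero.2 (inv_ne_zero hs0)) hη0, ?_⟩
    rw [uT_mulVec hf hw, Unitary.add_right' hf, smul_right' hf, hu, ← hη, mul_zero, zero_add, smul_add, smul_smul,
      ← add_assoc, add_eq_right]
    have e : -s⁻¹ * η * a = -1 := by rw [mul_assoc, mul_comm η a, e1, neg_mul, inv_mul_cancel₀ hs0]
    rw [e, neg_one_smul, add_neg_cancel]
  obtain ⟨z, hz, hzu, hzu'⟩ := exists_iso_ne_two hf hd hu0 hu0'
  obtain ⟨g, hg, k, hk, hgk⟩ := step hu hz fun h => hzu ((eq_zero_comm hf).1 h)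
  obtain ⟨g', hg', k', hk', hgk'⟩ := step hz hu' hzu'
  exact ⟨g' * g, mul_mem hg' hg, k * k', mul_ne_zero hk hk', by
    rw [mul_mulVec, hgk, mulVec_smul, hgk', smul_smul]⟩

/-- An anisotropic vector orthogonal to a hyperbolic pair. -/
theorem exists_aniso_pair (hd : 3 ≤ Fintype.card ι) {e e' : ι → F} (he : f e e = 0) (he' : f e' e' = 0)
    (h : f e' e = 1) : ∃ k, f k e = 0 ∧ f k e' = 0 ∧ f k k ≠ 0 := by
  classical
  have h' : f e e' = 1 := by rw [hf.herm, h, map_one]
  obtain ⟨y, hy, hy0⟩ := (LinearMap.ker ((linL hf e).prod (linL hf e'))).exists_mem_ne_zero_of_ne_bot fun hb => by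
    have h1 := LinearMap.finrank_range_add_finrank_ker ((linL hf e).prod (linL hf e'))
    have h2 := Submodule.finrank_le (LinearMap.range ((linL hf e).prod (linL hf e')))
    rw [hb, finrank_bot, Module.finrank_fintype_fun_eq_card] at h1
    rw [Module.finrank_prod, Module.finrank_self] at h2
    omega
  have hye : f y e = 0 := congrArg Prod.fst (LinearMap.mem_ker.1 hy)
  have hye' : f y e' = 0 := congrArg Prod.snd (LinearMap.mem_ker.1 hy)
  by_cases hyy : f y y = 0
  swap
  · exact ⟨y, hye, hye', hyy⟩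
  obtain ⟨x, hx⟩ := exists_dual hf hy0 1
  obtain ⟨z, hz⟩ : ∃ z, z = x - f x e • e' - f x e' • e := ⟨_, rfl⟩
  have hze : f z e = 0 := by
    rw [hz, sub_left' hf, sub_left' hf, hf.smul_left, hf.smul_left, h, he]; ring
  have hze' : f z e' = 0 := by
    rw [hz, sub_left' hf, sub_left' hf, hf.smul_left, hf.smul_left, h', he']; ring
  have hzy : f z y = 1 := by
    rw [hz, sub_left' hf, sub_left' hf, hf.smul_left, hf.smul_left, hx, (eq_zero_comm hf).1 hye,
      (eq_zero_comm hf).1 hye']
    ring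
  by_cases hzz : f z z = 0
  swap
  · exact ⟨z, hze, hze', hzz⟩
  obtain ⟨c, hc⟩ := exists_trace_ne_zero hf.ne_refl
  refine ⟨z + c • y, by rw [hf.add_left, hf.smul_left, hze, hye]; ring,
    by rw [hf.add_left, hf.smul_left, hze', hye']; ring, fun h0 => hc ?_⟩
  simp only [hf.add_left, hf.smul_left, Unitary.add_right' hf, smul_right' hf, hzz, hyy, hzy,
    show f y z = 1 by rw [hf.herm, hzy, map_one]] at h0
  linear_combination h0

/-- A vector orthogonal to a hyperbolic pair with prescribed norm. -/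
theorem exists_norm_pair (hd : 3 ≤ Fintype.card ι) {e e' : ι → F} (he : f e e = 0) (he' : f e' e' = 0)
    (h : f e' e = 1) {γ : F} (hγ : σ γ = γ) : ∃ z, f z e = 0 ∧ f z e' = 0 ∧ f z z = γ := by
  obtain ⟨k, hke, hke', hkk⟩ := exists_aniso_pair hf hd he he' h
  obtain ⟨r, hr⟩ := exists_norm_eq hf.ne_refl hf.involutive (b := γ / f k k)
    (by rw [map_div₀, self_fixed hf, hγ])
  refine ⟨r • k, by rw [hf.smul_left, hke, mul_zero], by rw [hf.smul_left, hke', mul_zero], ?_⟩
  rw [hf.smul_left, smul_right' hf, ← mul_assoc, hr, div_mul_cancel₀ _ hkk]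

/-- An isotropic vector orthogonal to an isotropic one, outside its line. -/
theorem exists_iso_perp' (hd : 4 ≤ Fintype.card ι) {e : ι → F} (he0 : e ≠ 0) (he : f e e = 0) :
    ∃ v, f v v = 0 ∧ f v e = 0 ∧ v ∉ Submodule.span F {e} := by
  classical
  obtain ⟨e', he', h, h'⟩ := exists_partner hf he0 he
  obtain ⟨k, hke, hke', hkk⟩ := exists_aniso_pair hf (by omega) he he' h
  obtain ⟨y, hy, hy0⟩ :=
    (LinearMap.ker (((linL hf e).prod (linL hf e')).prod (linL hf k))).exists_mem_ne_zero_of_ne_bot fun hb => by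
      have h1 := LinearMap.finrank_range_add_finrank_ker (((linL hf e).prod (linL hf e')).prod (linL hf k))
      have h2 := Submodule.finrank_le (LinearMap.range (((linL hf e).prod (linL hf e')).prod (linL hf k)))
      rw [hb, finrank_bot, Module.finrank_fintype_fun_eq_card] at h1
      rw [Module.finrank_prod, Module.finrank_prod, Module.finrank_self] at h2
      omega
  have hh := LinearMap.mem_ker.1 hy
  have hye : f y e = 0 := congrArg (fun p => p.1.1) hh
  have hye' : f y e' = 0 := congrArg (fun p => p.1.2) hh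
  have hyk : f y k = 0 := congrArg Prod.snd hh
  have fin : ∀ v, v ≠ 0 → f v v = 0 → f v e = 0 → f v e' = 0 →
      ∃ v, f v v = 0 ∧ f v e = 0 ∧ v ∉ Submodule.span F {e} := fun v hv0 hvv hve hve' =>
    ⟨v, hvv, hve, fun hm => by
      obtain ⟨j, rfl⟩ := Submodule.mem_span_singleton.1 hm
      rw [hf.smul_left, h', mul_one] at hve'
      exact hv0 (by rw [hve', zero_smul])⟩
  by_cases hyy : f y y = 0
  · exact fin y hy0 hyy hye hye'
  obtain ⟨r, hr⟩ := exists_norm_eq hf.ne_refl hf.involutive (b := -(f y y) / f k k)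
    (by rw [map_div₀, map_neg, self_fixed hf, self_fixed hf])
  rw [eq_div_iff hkk] at hr
  refine fin (y + r • k) (fun h0 => hyy ?_) ?_ (by rw [hf.add_left, hf.smul_left, hye, hke]; ring)
    (by rw [hf.add_left, hf.smul_left, hye', hke']; ring)
  · have e0 := congrArg (fun z => f z y) h0
    simpa [hf.add_left, hf.smul_left, (eq_zero_comm hf).1 hyk, zero_left' hf] using e0
  · simp only [hf.add_left, hf.smul_left, Unitary.add_right' hf, smul_right' hf, hyk, (eq_zero_comm hf).1 hyk]
    linear_combination hr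

/-- The isotropic vectors orthogonal to an isotropic vector span its orthogonal. -/
theorem mem_span_iso' (hd : 4 ≤ Fintype.card ι) {p x : ι → F} (hp0 : p ≠ 0) (hp : f p p = 0) (hx : f x p = 0) :
    x ∈ Submodule.span F {v | f v v = 0 ∧ f v p = 0} := by
  obtain ⟨v, hv, hvp, hvs⟩ := exists_iso_perp' hf hd hp0 hp
  have hvm : v ∈ Submodule.span F {v | f v v = 0 ∧ f v p = 0} := Submodule.subset_span ⟨hv, hvp⟩
  have key : ∀ x, f x p = 0 → f x v ≠ 0 → x ∈ Submodule.span F {v | f v v = 0 ∧ f v p = 0} := fun x hx hxv => by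
    obtain ⟨k, hk⟩ := exists_iso_shift hf hv hxv
    have := Submodule.sub_mem _ (Submodule.subset_span (R := F) (show x + k • v ∈ {v | f v v = 0 ∧ f v p = 0} from
      ⟨hk, by rw [hf.add_left, hf.smul_left, hx, hvp, mul_zero, add_zero]⟩)) (Submodule.smul_mem _ k hvm)
    rwa [add_sub_cancel_right] at this
  by_cases hxv : f x v = 0
  · obtain ⟨z, hzp, hzv⟩ := exists_perp_pair hf hvs
    have := Submodule.sub_mem _
      (key (x + z) (by rw [hf.add_left, hx, hzp, add_zero]) (by rw [hf.add_left, hxv, zero_add]; exact hzv))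
      (key z hzp hzv)
    rwa [add_sub_cancel_right] at this
  · exact key x hx hxv

/-- An isotropic vector orthogonal to `p` pairing with `w`. -/
theorem exists_iso_test' (hd : 4 ≤ Fintype.card ι) {p w : ι → F} (hp0 : p ≠ 0) (hp : f p p = 0)
    (h : w ∉ Submodule.span F {p}) : ∃ v, f v v = 0 ∧ f v p = 0 ∧ f v w ≠ 0 := by
  obtain ⟨z, hzp, hzw⟩ := exists_perp_pair hf h
  by_contra hcon
  push Not at hcon
  exact hzw ((Submodule.span_le (p := LinearMap.ker (linL hf w))).2 (fun v hv => hcon v hv.1 hv.2)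
    (mem_span_iso' hf hd hp0 hp hzp))

/-- A subspace of dimension at least two contains a non-zero isotropic vector. -/
theorem exists_iso_mem {U : Submodule F (ι → F)} (hU : 2 ≤ Module.finrank F U) :
    ∃ u ∈ U, u ≠ 0 ∧ f u u = 0 := by
  obtain ⟨x, hxU, hx0⟩ := U.exists_mem_ne_zero_of_ne_bot fun hb => by rw [hb, finrank_bot] at hU; omega
  by_cases hxx : f x x = 0
  · exact ⟨x, hxU, hx0, hxx⟩
  obtain ⟨y, hy, hy0⟩ := (U ⊓ LinearMap.ker (linL hf x)).exists_mem_ne_zero_of_ne_bot fun hb => by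
    have h1 := Submodule.finrank_sup_add_finrank_inf_eq U (LinearMap.ker (linL hf x))
    have h2 := LinearMap.finrank_range_add_finrank_ker (linL hf x)
    have h3 := Submodule.finrank_le (LinearMap.range (linL hf x))
    have h4 := Submodule.finrank_le (U ⊔ LinearMap.ker (linL hf x))
    rw [hb, finrank_bot] at h1
    rw [Module.finrank_self] at h3
    omega
  have hyx : f y x = 0 := LinearMap.mem_ker.1 hy.2
  by_cases hyy : f y y = 0
  · exact ⟨y, hy.1, hy0, hyy⟩
  obtain ⟨k, hk⟩ := exists_norm_eq hf.ne_refl hf.involutive (b := -(f x x) / f y y)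
    (by rw [map_div₀, map_neg, self_fixed hf, self_fixed hf])
  rw [eq_div_iff hyy] at hk
  refine ⟨x + k • y, U.add_mem hxU (U.smul_mem k hy.1), fun h => hxx ?_, ?_⟩
  · have e := congrArg (fun z => f z x) h
    simpa [hf.add_left, hf.smul_left, hyx, zero_left' hf] using e
  · simp only [hf.add_left, hf.smul_left, Unitary.add_right' hf, smul_right' hf, hyx, (eq_zero_comm hf).1 hyx]
    linear_combination hk

end CfsgLib.Classical22.TensorMax.UnitT
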