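/-
Two unipotent elements with nilpotent composite generate a p-group.
-/
import Cfsg.Agent.Lib.Classical22.UnitTensor.Space

set_option autoImplicit false
set_option linter.unusedSectionVars false

namespace CfsgLib.Classical22.TensorMax.UnitT

open Matrix CfsgLib.Transvec
open scoped MatrixGroups

section PGroup

variable {ι : Type} [Fintype ι] [DecidableEq ι] {F : Type*} [Field F] [Finite F]

/-- The descending chain attached to two endomorphisms. -/
def chain (X Z : Matrix ι ι F) : ℕ → Submodule F (ι → F)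
  | 0 => ⊤
  | k + 1 => (chain X Z k).map (Matrix.mulVecLin X) ⊔ (chain X Z k).map (Matrix.mulVecLin Z)

lemma chain_succ_le (X Z : Matrix ι ι F) : ∀ k, chain X Z (k + 1) ≤ chain X Z k
  | 0 => le_top
  | k + 1 => sup_le_sup (Submodule.map_mono (chain_succ_le X Z k)) (Submodule.map_mono (chain_succ_le X Z k))

lemma map_range_eq (A B : Matrix ι ι F) :
    (LinearMap.range (Matrix.mulVecLin B)).map (Matrix.mulVecLin A) = LinearMap.range (Matrix.mulVecLin (A * B)) := by
  rw [Matrix.mulVecLin_mul, LinearMap.range_comp]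

lemma range_mul_le (A B : Matrix ι ι F) :
    LinearMap.range (Matrix.mulVecLin (A * B)) ≤ LinearMap.range (Matrix.mulVecLin A) := by
  rw [Matrix.mulVecLin_mul]; exact LinearMap.range_comp_le_range _ _

lemma chain_even_le {X Z : Matrix ι ι F} (hX : X * X = 0) (hZ : Z * Z = 0) :
    ∀ j, chain X Z (2 * j) ≤
      LinearMap.range (Matrix.mulVecLin ((X * Z) ^ j)) ⊔ LinearMap.range (Matrix.mulVecLin ((Z * X) ^ j))
  | 0 => by simp [chain]
  | j + 1 => by
    have ih := chain_even_le hX hZ j
    rw [show 2 * (j + 1) = 2 * j + 1 + 1 by ring]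
    simp only [chain, Submodule.map_sup]
    have hXX : ((chain X Z (2 * j)).map (Matrix.mulVecLin X)).map (Matrix.mulVecLin X) = ⊥ := by
      rw [← Submodule.map_comp, ← Matrix.mulVecLin_mul, hX, Matrix.mulVecLin_zero, Submodule.map_zero]
    have hZZ : ((chain X Z (2 * j)).map (Matrix.mulVecLin Z)).map (Matrix.mulVecLin Z) = ⊥ := by
      rw [← Submodule.map_comp, ← Matrix.mulVecLin_mul, hZ, Matrix.mulVecLin_zero, Submodule.map_zero]
    rw [hXX, hZZ, bot_sup_eq, sup_bot_eq]
    refine sup_le_sup ?_ ?_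
    · rw [← Submodule.map_comp, ← Matrix.mulVecLin_mul]
      refine (Submodule.map_mono ih).trans ?_
      rw [Submodule.map_sup, map_range_eq, map_range_eq, ← pow_succ']
      refine sup_le le_rfl ?_
      rcases j with _ | j
      · simp
      · rw [pow_succ', ← mul_assoc, show X * Z * (Z * X) = 0 by
          rw [mul_assoc, ← mul_assoc Z Z X, hZ, zero_mul, mul_zero], zero_mul, Matrix.mulVecLin_zero,
          LinearMap.range_zero]
        exact bot_le
    · rw [← Submodule.map_comp, ← Matrix.mulVecLin_mul]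
      refine (Submodule.map_mono ih).trans ?_
      rw [Submodule.map_sup, map_range_eq, map_range_eq, ← pow_succ']
      refine sup_le ?_ le_rfl
      rcases j with _ | j
      · simp
      · rw [pow_succ', ← mul_assoc, show Z * X * (X * Z) = 0 by
          rw [mul_assoc, ← mul_assoc X X Z, hX, zero_mul, mul_zero], zero_mul, Matrix.mulVecLin_zero,
          LinearMap.range_zero]
        exact bot_le

/-- Two unipotent elements of square zero with nilpotent composite generate a p-group. -/
theorem isPGroup_closure (p : ℕ) [Fact p.Prime] [CharP F p] [Nonempty ι] {x z : GL ι F}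
    (hx : (x.val - 1) * (x.val - 1) = 0) (hz : (z.val - 1) * (z.val - 1) = 0) {N : ℕ}
    (hN : ((x.val - 1) * (z.val - 1)) ^ N = 0) : IsPGroup p (Subgroup.closure ({x, z} : Set (GL ι F))) := by
  obtain ⟨X, hXdef⟩ : ∃ X, X = x.val - 1 := ⟨_, rfl⟩
  obtain ⟨Z, hZdef⟩ : ∃ Z, Z = z.val - 1 := ⟨_, rfl⟩
  rw [← hXdef] at hx hN
  rw [← hZdef] at hz hN
  obtain ⟨P, hP⟩ : ∃ P : GL ι F → Prop, ∀ h, P h ↔
      ∀ k, ∀ v ∈ chain X Z k, h.val *ᵥ v - v ∈ chain X Z (k + 1) := ⟨_, fun h => Iff.rfl⟩
  have hone : P 1 := (hP 1).mpr fun k v _ => by rw [Units.val_one, one_mulVec, sub_self]; exact zero_mem _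
  have hmul : ∀ g h, P g → P h → P (g * h) := fun g h hg hh => (hP _).mpr fun k v hv => by
    have e1 := (hP h).mp hh k v hv
    have e2 := (hP g).mp hg (k + 1) _ e1
    have e3 := (hP g).mp hg k v hv
    have := add_mem (chain_succ_le X Z (k + 1) e2) (add_mem e1 e3)
    rw [Transvec.mul_mulVec]
    convert this using 1
    rw [mulVec_sub]
    abel
  have hgen : ∀ h ∈ ({x, z} : Set (GL ι F)), P h := by
    rintro h (rfl | rfl) <;> refine (hP _).mpr fun k v hv => ?_
    · rw [show h.val *ᵥ v - v = X *ᵥ v by rw [hXdef, sub_mulVec, one_mulVec]]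
      exact Submodule.mem_sup_left ⟨v, hv, rfl⟩
    · rw [show h.val *ᵥ v - v = Z *ᵥ v by rw [hZdef, sub_mulVec, one_mulVec]]
      exact Submodule.mem_sup_right ⟨v, hv, rfl⟩
  have hall : ∀ h ∈ Subgroup.closure ({x, z} : Set (GL ι F)), P h := fun h hh => by
    induction hh using Subgroup.closure_induction with
    | mem h hh => exact hgen h hh
    | one => exact hone
    | mul g h _ _ hg hh => exact hmul g h hg hh
    | inv g _ hg =>
      have hpow : ∀ n : ℕ, P (g ^ n) := fun n => by
        induction n with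
        | zero => rw [pow_zero]; exact hone
        | succ n ih => rw [pow_succ]; exact hmul _ _ ih hg
      rw [inv_eq_of_mul_eq_one_right (show g * g ^ (orderOf g - 1) = 1 by
        rw [← pow_succ', Nat.sub_add_cancel (orderOf_pos g), pow_orderOf_eq_one])]
      exact hpow _
  have hbot : chain X Z (2 * (N + 1)) = ⊥ := by
    refine le_bot_iff.mp ((chain_even_le hx hz (N + 1)).trans (sup_le ?_ ?_))
    · rw [pow_succ, hN, zero_mul, Matrix.mulVecLin_zero, LinearMap.range_zero]
    · have e : ∀ n, (Z * X) ^ (n + 1) = Z * (X * Z) ^ n * X := fun n => by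
        induction n with
        | zero => simp
        | succ n ih => rw [pow_succ, ih, pow_succ (X * Z)]; simp only [mul_assoc]
      rw [e, hN, mul_zero, zero_mul, Matrix.mulVecLin_zero, LinearMap.range_zero]
  rintro ⟨h, hh⟩
  refine ⟨2 * (N + 1), Subtype.ext (Units.ext ?_)⟩
  have hnil : (h.val - 1) ^ (2 * (N + 1)) = 0 := Matrix.ext_iff_mulVec.2 fun v => by
    have key : ∀ k, (h.val - 1) ^ k *ᵥ v ∈ chain X Z k := fun k => by
      induction k with
      | zero => trivial
      | succ k ih =>
        rw [pow_succ', ← mulVec_mulVec, sub_mulVec, one_mulVec]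
        exact (hP h).mp (hall h hh) k _ ih
    have := key (2 * (N + 1))
    rw [hbot, Submodule.mem_bot] at this
    rw [this, zero_mulVec]
  haveI : CharP (Matrix ι ι F) p := Matrix.charP p
  rw [SubmonoidClass.coe_pow, Units.val_pow_eq_pow_val]
  change h.val ^ p ^ (2 * (N + 1)) = 1
  rw [← sub_eq_zero]
  have e := sub_pow_char_pow_of_commute p (2 * (N + 1)) (Commute.one_right h.val)
  rw [one_pow] at e
  rw [← e]
  exact pow_eq_zero_of_le (Nat.lt_pow_self (Fact.out : p.Prime).one_lt).le hnil

end PGroup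

end CfsgLib.Classical22.TensorMax.UnitT
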