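/-
A unitary space that is a tensor product of two unitary spaces: contractions, Kronecker elements, roots, and the
setting of a group between the tensor stabiliser and the special unitary group.
-/
import Cfsg.Agent.Lib.Classical22.UnitTensor.Space
import Cfsg.Agent.Lib.Classical22.SpOrthTensor.Base

set_option autoImplicit false
set_option linter.unusedSectionVars false
set_option linter.unusedSimpArgs false

namespace CfsgLib.Classical22.TensorMax.UnitT

open Matrix Kronecker CfsgLib.Transvec CfsgLib.Transvec.Unitary CfsgLib.Classical22.TensorMax.SympO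
open CfsgLib.Classical22.TensorMax.SpO (kr kr_apply isKron_kr unitOf glOfLin glOfLin_mulVec)
open scoped MatrixGroups

variable {F : Type*} [Field F] {a b : ℕ}

/-- The form is the tensor product of two unitary forms. -/
structure Tens (σ : F ≃+* F) (f : (Fin a × Fin b → F) → (Fin a × Fin b → F) → F)
    (f₁ : (Fin a → F) → (Fin a → F) → F) (f₂ : (Fin b → F) → (Fin b → F) → F) : Prop where
  uni : Cfsg.Geo.IsUnitaryForm σ f
  left : Cfsg.Geo.IsUnitaryForm σ f₁
  right : Cfsg.Geo.IsUnitaryForm σ f₂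
  pure : ∀ x u y w, f (pt x u) (pt y w) = f₁ x y * f₂ u w

/-- The pure subspace of all `d ⊗ v`. -/
def pureD (b : ℕ) (d : Fin a → F) : Submodule F (Fin a × Fin b → F) := LinearMap.range (ptR (b := b) d)

lemma pt_mem_pureD (d : Fin a → F) (v : Fin b → F) : pt d v ∈ pureD b d := ⟨v, rfl⟩

lemma ptR_injective {d : Fin a → F} (hd : d ≠ 0) : Function.Injective (ptR (b := b) d) := fun v w h => by
  obtain ⟨i, hi⟩ := Function.ne_iff.mp hd
  exact funext fun j => mul_left_cancel₀ hi (congrFun h (i, j))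

lemma finrank_pureD {d : Fin a → F} (hd : d ≠ 0) : Module.finrank F (pureD b d) = b := by
  rw [pureD, LinearMap.finrank_range_of_inj (ptR_injective hd), Module.finrank_fin_fun]

lemma lin_ext {W : Type*} [AddCommGroup W] [Module F W] {L L' : (Fin a × Fin b → F) →ₗ[F] W}
    (h : ∀ x u, L (pt x u) = L' (pt x u)) : L = L' :=
  LinearMap.ext fun v => by
    rw [eq_sum_pt v, map_sum, map_sum]
    exact Finset.sum_congr rfl fun j _ => h _ _

/-- The contraction dual to pure vectors at `u`. -/
def ctr (f₂ : (Fin b → F) → (Fin b → F) → F) (u : Fin b → F) : (Fin a × Fin b → F) →ₗ[F] (Fin a → F) :=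
  sl (uvec f₂ u)

lemma det_kr (A : GL (Fin a) F) (B : GL (Fin b) F) : (kr A B).val.det = A.val.det ^ b * B.val.det ^ a := by
  rw [show (kr A B).val = A.val ⊗ₖ B.val from rfl, det_kronecker, Fintype.card_fin, Fintype.card_fin]

/-- Exchanging the factors. -/
noncomputable def swapEquiv (a b : ℕ) (F : Type*) [Field F] : GL (Fin a × Fin b) F ≃* GL (Fin b × Fin a) F :=
  Cfsg.Geo.glReindex (Equiv.prodComm (Fin a) (Fin b))

/-- A vector with exchanged factors. -/
def swapV (v : Fin a × Fin b → F) : Fin b × Fin a → F := v ∘ Prod.swap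

lemma swapV_pt (x : Fin a → F) (u : Fin b → F) : swapV (pt x u) = pt u x :=
  funext fun p => by simp [swapV, pt, mul_comm]

lemma swapV_swapV (v : Fin b × Fin a → F) : swapV (swapV v) = v := funext fun p => by simp [swapV]

lemma swapEquiv_mulVec (g : GL (Fin a × Fin b) F) (v : Fin a × Fin b → F) :
    (swapEquiv a b F g).val *ᵥ swapV v = swapV (g.val *ᵥ v) := by
  rw [show (swapEquiv a b F g).val = Matrix.reindexAlgEquiv F F (Equiv.prodComm (Fin a) (Fin b)) g.val from rfl,
    Matrix.coe_reindexAlgEquiv, Matrix.reindex_apply, Matrix.submatrix_mulVec_equiv]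
  funext p
  simp [swapV, Function.comp_def]

lemma isKron_swap {g : GL (Fin a × Fin b) F} : IsKron (swapEquiv a b F g) ↔ IsKron g := by
  have key : ∀ {a b : ℕ} {g : GL (Fin a × Fin b) F}, IsKron g → IsKron (swapEquiv a b F g) := by
    intro a b g hg
    obtain ⟨A, B, hAB⟩ := isKron_apply hg
    exact isKron_of_apply B A fun u x => by rw [← swapV_pt, swapEquiv_mulVec, hAB, swapV_pt]
  refine ⟨fun h => ?_, key⟩
  have h' := key h
  rwa [show swapEquiv b a F (swapEquiv a b F g) = g from gl_ext fun v => by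
    conv_lhs => rw [← swapV_swapV v, swapEquiv_mulVec, swapEquiv_mulVec, swapV_swapV]] at h'

variable {σ : F ≃+* F} {f : (Fin a × Fin b → F) → (Fin a × Fin b → F) → F}
  {f₁ : (Fin a → F) → (Fin a → F) → F} {f₂ : (Fin b → F) → (Fin b → F) → F}

namespace Tens

variable (T : Tens σ f f₁ f₂)
include T

lemma ctr_pt (u : Fin b → F) (x : Fin a → F) (z : Fin b → F) : ctr f₂ u (pt x z) = f₂ z u • x := by
  rw [ctr, sl_pt, uvec_dot T.right]

lemma ctr_smul (c : F) (u : Fin b → F) (v : Fin a × Fin b → F) : ctr f₂ (c • u) v = σ c • ctr f₂ u v := by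
  rw [ctr, uvec_smul T.right, sl_smul_left]
  rfl

lemma ctr_add (u w : Fin b → F) (v : Fin a × Fin b → F) : ctr f₂ (u + w) v = ctr f₂ u v + ctr f₂ w v := by
  rw [ctr, uvec_add T.right, sl_add_left]
  rfl

lemma f_pt (v : Fin a × Fin b → F) (p : Fin a → F) (u : Fin b → F) : f v (pt p u) = f₁ (ctr f₂ u v) p := by
  have h : linL T.uni (pt p u) = (linL T.left p).comp (ctr f₂ u) := lin_ext fun x z => by
    change f (pt x z) (pt p u) = f₁ (ctr f₂ u (pt x z)) p
    rw [T.pure, T.ctr_pt, T.left.smul_left, mul_comm]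
  exact LinearMap.congr_fun h v

lemma eq_of_ctr {v w : Fin a × Fin b → F} (h : ∀ u, ctr f₂ u v = ctr f₂ u w) : v = w := by
  by_contra hne
  obtain ⟨y, hy⟩ := (T.uni.nondegenerate _ (sub_ne_zero.mpr hne)).2
  refine hy ?_
  rw [eq_sum_pt y]
  induction (Finset.univ : Finset (Fin b)) using Finset.cons_induction with
  | empty => rw [Finset.sum_empty, zero_right' T.uni]
  | cons j s hj ih =>
    rw [Finset.sum_cons, Unitary.add_right' T.uni, ih, add_zero, T.f_pt, map_sub, h, sub_self, zero_left' T.left]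

/-- A vector with vanishing contractions at the orthogonal of `e` is pure at `e`. -/
lemma mem_pure_of_ctr {e e' : Fin b → F} (he : f₂ e' e = 1) {v : Fin a × Fin b → F}
    (h : ∀ w, f₂ w e = 0 → ctr f₂ w v = 0) : v = pt (ctr f₂ e' v) e :=
  T.eq_of_ctr fun u => by
    rw [T.ctr_pt, T.right.herm e u]
    conv_lhs => rw [← sub_add_cancel u (f₂ u e • e'), T.ctr_add, T.ctr_smul,
      h _ (by rw [sub_left' T.right, T.right.smul_left, he, mul_one, sub_self]), zero_add]

lemma iso_of_pure {g : GL (Fin a × Fin b) F}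
    (h : ∀ x u y w, f (g.val *ᵥ pt x u) (g.val *ᵥ pt y w) = f₁ x y * f₂ u w) : Iso f g := fun v w => by
  have hr : ∀ y z v, f (g.val *ᵥ v) (g.val *ᵥ pt y z) = f v (pt y z) := fun y z v =>
    LinearMap.congr_fun (lin_ext (L := (linL T.uni (g.val *ᵥ pt y z)).comp (Matrix.mulVecLin g.val))
      (L' := linL T.uni (pt y z)) fun x u => (h x u y z).trans (T.pure x u y z).symm) v
  rw [eq_sum_pt w, Matrix.mulVec_sum]
  induction (Finset.univ : Finset (Fin b)) using Finset.cons_induction with
  | empty => simp [zero_right' T.uni]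
  | cons j s hj ih => simp only [Finset.sum_cons, Unitary.add_right' T.uni, ih, hr]

/-- Kronecker products of similitudes with inverse multipliers are isometries. -/
lemma iso_kr {A : GL (Fin a) F} {B : GL (Fin b) F} {m n : F} (hA : ∀ x y, f₁ (A.val *ᵥ x) (A.val *ᵥ y) = m * f₁ x y)
    (hB : ∀ x y, f₂ (B.val *ᵥ x) (B.val *ᵥ y) = n * f₂ x y) (hmn : m * n = 1) : Iso f (kr A B) :=
  T.iso_of_pure fun x p y q => by
    rw [kr_apply, kr_apply, T.pure, hA, hB]
    linear_combination (f₁ x y * f₂ p q) * hmn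

/-- Contractions commute with a factor acting on the first space. -/
lemma ctr_image {g : GL (Fin a × Fin b) F} (hg : Iso f g) {u w : Fin b → F} {x y : Fin a → F}
    (h : g.val *ᵥ pt x u = pt y w) (v : Fin a × Fin b → F) : f₁ (ctr f₂ w (g.val *ᵥ v)) y = f₁ (ctr f₂ u v) x := by
  rw [← T.f_pt, ← h, hg, T.f_pt]

lemma kr_left_mulVec_ctr (A : GL (Fin a) F) (u : Fin b → F) (v : Fin a × Fin b → F) :
    ctr f₂ u ((kr A 1).val *ᵥ v) = A.val *ᵥ ctr f₂ u v :=
  LinearMap.congr_fun (lin_ext (L := (ctr f₂ u).comp (Matrix.mulVecLin (kr A 1).val))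
    (L' := (Matrix.mulVecLin A.val).comp (ctr f₂ u)) fun x z => by
      change ctr f₂ u ((kr A 1).val *ᵥ pt x z) = A.val *ᵥ ctr f₂ u (pt x z)
      rw [kr_apply, Units.val_one, one_mulVec, T.ctr_pt, T.ctr_pt, mulVec_smul]) v

/-- The transvection of the second factor, tensored with the identity. -/
lemma root_apply {u : Fin b → F} (hu : f₂ u u = 0) (c : F) (v : Fin a × Fin b → F) :
    (kr (1 : GL (Fin a) F) (uT f₂ u c)).val *ᵥ v = v + c • pt (ctr f₂ u v) u :=
  Eq.trans (Matrix.mulVecLin_apply _ _).symm <|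
  LinearMap.congr_fun (lin_ext (L := Matrix.mulVecLin (kr (1 : GL (Fin a) F) (uT f₂ u c)).val)
    (L' := LinearMap.id + c • (ptL u).comp (ctr f₂ u)) fun x z => by
      change (kr (1 : GL (Fin a) F) (uT f₂ u c)).val *ᵥ pt x z = pt x z + c • pt (ctr f₂ u (pt x z)) u
      rw [kr_apply, Units.val_one, one_mulVec, uT_mulVec T.right hu, T.ctr_pt, pt_add_right, pt_smul_right,
        pt_smul_left, smul_smul]) v

lemma swap : Tens σ (fun v w => f (swapV v) (swapV w)) f₂ f₁ where
  uni :=
    { ne_refl := T.uni.ne_refl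
      involutive := T.uni.involutive
      add_left := fun x y v => by rw [show swapV (x + y) = swapV x + swapV y from rfl, T.uni.add_left]
      smul_left := fun c x v => by rw [show swapV (c • x) = c • swapV x from rfl, T.uni.smul_left]
      herm := fun v w => T.uni.herm _ _
      nondegenerate := fun v hv => by
        have hv' : swapV v ≠ 0 := fun h => hv (by rw [← swapV_swapV v, h]; rfl)
        obtain ⟨⟨x, hx⟩, ⟨y, hy⟩⟩ := T.uni.nondegenerate _ hv'
        exact ⟨⟨swapV x, show f (swapV (swapV x)) (swapV v) ≠ 0 by rwa [swapV_swapV]⟩,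
          ⟨swapV y, show f (swapV v) (swapV (swapV y)) ≠ 0 by rwa [swapV_swapV]⟩⟩ }
  left := T.right
  right := T.left
  pure x u y w := by rw [swapV_pt, swapV_pt, T.pure, mul_comm]

end Tens

/-- A group between the tensor stabiliser and the special unitary group, missing some transvection. -/
structure Ctx [Finite F] (σ : F ≃+* F) (f : (Fin a × Fin b → F) → (Fin a × Fin b → F) → F)
    (f₁ : (Fin a → F) → (Fin a → F) → F) (f₂ : (Fin b → F) → (Fin b → F) → F)
    (M : Subgroup (GL (Fin a × Fin b) F)) : Prop where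
  tens : Tens σ f f₁ f₂
  dimA : 2 ≤ a
  dimB : 2 ≤ b
  big : 4 ≤ a ∨ 4 ≤ b ∨ (a = 2 ∧ b = 3) ∨ (a = 3 ∧ b = 2)
  hyp : (∃ k : F, σ k = k ∧ k ≠ 0 ∧ k ≠ 1) ∨ 3 ≤ a ∧ 3 ≤ b
  le : ∀ g, IsKron g → Iso f g → g.val.det = 1 → g ∈ M
  sub : ∀ g ∈ M, Iso f g ∧ g.val.det = 1
  ne : ¬ ∀ v, f v v = 0 → UFull σ f M v

namespace Ctx

variable [Finite F] {M : Subgroup (GL (Fin a × Fin b) F)} (C : Ctx σ f f₁ f₂ M)
include C

theorem iso {g : GL (Fin a × Fin b) F} (hg : g ∈ M) : Iso f g := (C.sub g hg).1

/-- A transvection product on the first factor. -/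
theorem krA_mem {g : GL (Fin a) F} (hi : Iso f₁ g) (hd : g.val.det = 1) : kr g (1 : GL (Fin b) F) ∈ M :=
  C.le _ (isKron_kr _ _) (C.tens.iso_kr (m := 1) (n := 1) (fun x y => by rw [one_mul]; exact hi x y)
    (fun x y => by rw [Units.val_one, one_mulVec, one_mulVec, one_mul]) (one_mul 1))
    (by rw [det_kr, hd, Units.val_one, det_one, one_pow, one_pow, one_mul])

/-- A transvection product on the second factor. -/
theorem krB_mem {g : GL (Fin b) F} (hi : Iso f₂ g) (hd : g.val.det = 1) : kr (1 : GL (Fin a) F) g ∈ M :=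
  C.le _ (isKron_kr _ _) (C.tens.iso_kr (m := 1) (n := 1)
    (fun x y => by rw [Units.val_one, one_mulVec, one_mulVec, one_mul]) (fun x y => by rw [one_mul]; exact hi x y)
    (one_mul 1))
    (by rw [det_kr, hd, Units.val_one, det_one, one_pow, one_pow, one_mul])

theorem transA_mem {g : GL (Fin a) F} (hg : g ∈ transvGroup σ f₁) : kr g (1 : GL (Fin b) F) ∈ M :=
  C.krA_mem (transvGroup_le C.tens.left hg).1 (transvGroup_le C.tens.left hg).2

theorem transB_mem {g : GL (Fin b) F} (hg : g ∈ transvGroup σ f₂) : kr (1 : GL (Fin a) F) g ∈ M :=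
  C.krB_mem (transvGroup_le C.tens.right hg).1 (transvGroup_le C.tens.right hg).2

/-- The same situation with the factors exchanged. -/
theorem swap : Ctx σ (fun v w => f (swapV v) (swapV w)) f₂ f₁ (M.map (swapEquiv a b F).toMonoidHom) where
  tens := C.tens.swap
  dimA := C.dimB
  dimB := C.dimA
  big := by have := C.big; omega
  hyp := C.hyp.imp_right And.symm
  le g hk hi hd := by
    obtain ⟨g₀, rfl⟩ := (swapEquiv a b F).surjective g
    refine ⟨g₀, C.le g₀ (isKron_swap.mp hk) (fun v w => ?_) ?_, rfl⟩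
    · have h := hi (swapV v) (swapV w)
      simp only [swapEquiv_mulVec, swapV_swapV] at h
      exact h
    · rw [← hd, show (swapEquiv a b F g₀).val = Matrix.reindexAlgEquiv F F (Equiv.prodComm (Fin a) (Fin b)) g₀.val
        from rfl, Matrix.coe_reindexAlgEquiv, Matrix.det_reindex_self]
  sub := by
    rintro _ ⟨g, hg, rfl⟩
    refine ⟨fun v w => ?_, ?_⟩
    · change f (swapV ((swapEquiv a b F g).val *ᵥ v)) (swapV ((swapEquiv a b F g).val *ᵥ w)) = _
      conv_lhs => rw [← swapV_swapV v, ← swapV_swapV w, swapEquiv_mulVec, swapEquiv_mulVec, swapV_swapV, swapV_swapV]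
      exact C.iso hg _ _
    · change (Matrix.reindexAlgEquiv F F (Equiv.prodComm (Fin a) (Fin b)) g.val).det = 1
      rw [Matrix.coe_reindexAlgEquiv, Matrix.det_reindex_self]
      exact (C.sub g hg).2
  ne h := C.ne fun v hv => ⟨hv, fun c hc => by
    obtain ⟨g, hg, he⟩ := (h (swapV v) (by simpa only [swapV_swapV] using hv)).2 c hc
    have e : g = uT f v c := (swapEquiv a b F).injective (he.trans (gl_ext fun w => by
      rw [uT_mulVec C.tens.swap.uni (by simpa only [swapV_swapV] using hv)]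
      conv_rhs => rw [← swapV_swapV w, swapEquiv_mulVec, uT_mulVec C.tens.uni hv]
      rw [swapV_swapV v]
      rfl))
    exact e ▸ hg⟩

end Ctx

end CfsgLib.Classical22.TensorMax.UnitT
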