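/-
One pure isotropic centre with all its transvections gives every isotropic centre.
-/
import Cfsg.Agent.Lib.Classical22.UnitTensor.Base
import Cfsg.Agent.Lib.Transvec.UnitaryPair

set_option autoImplicit false
set_option linter.unusedSectionVars false
set_option maxHeartbeats 800000

namespace CfsgLib.Classical22.TensorMax.UnitT

open Matrix Kronecker CfsgLib.Transvec CfsgLib.Transvec.Unitary CfsgLib.Classical22.TensorMax.SympO
open CfsgLib.Classical22.TensorMax.SpO (kr kr_apply isKron_kr)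
open scoped MatrixGroups

section General

variable {ι : Type} [Fintype ι] [DecidableEq ι] {F : Type*} [Field F] {σ : F ≃+* F}
  {f : (ι → F) → (ι → F) → F}

/-- All root elements at `p` along multiples of `w` lie in `M`. -/
def InE (f : (ι → F) → (ι → F) → F) (M : Subgroup (GL ι F)) (p w : ι → F) : Prop :=
  f w p = 0 ∧ ∀ k : F, ∃ g ∈ M, ∃ ν : F, ∀ v,
    g.val *ᵥ v = v + f v p • (k • w) - f v (k • w) • p + (ν * f v p) • p

variable (hf : Cfsg.Geo.IsUnitaryForm σ f) {M : Subgroup (GL ι F)} {p : ι → F}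
include hf

lemma inE_zero : InE f M p 0 := ⟨zero_left' hf p, fun k => ⟨1, one_mem M, 0, fun v => by
  simp [zero_right' hf]⟩⟩

lemma inE_smul {w : ι → F} (hw : InE f M p w) (c : F) : InE f M p (c • w) :=
  ⟨by rw [hf.smul_left, hw.1, mul_zero], fun k => by rw [smul_smul]; exact hw.2 (k * c)⟩

lemma inE_add (hp : f p p = 0) {w w' : ι → F} (hw : InE f M p w) (hw' : InE f M p w') : InE f M p (w + w') := by
  refine ⟨by rw [hf.add_left, hw.1, hw'.1, add_zero], fun k => ?_⟩
  obtain ⟨g₁, hg₁, ν₁, h₁⟩ := hw.2 k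
  obtain ⟨g₂, hg₂, ν₂, h₂⟩ := hw'.2 k
  refine ⟨g₁ * g₂, mul_mem hg₁ hg₂, ν₁ + ν₂ - f (k • w') (k • w), fun v => ?_⟩
  have hpw : f p w = 0 := (eq_zero_comm hf).1 hw.1
  rw [Units.val_mul, ← mulVec_mulVec, h₂, h₁]
  simp only [hf.add_left, sub_left' hf, hf.smul_left, smul_right' hf, Unitary.add_right' hf, hw'.1, hp, hpw,
    mul_zero, add_zero, sub_zero, smul_add]
  module

lemma inE_sub (hp : f p p = 0) {w w' : ι → F} (hw : InE f M p w) (hw' : InE f M p w') : InE f M p (w - w') := by
  rw [sub_eq_add_neg, ← neg_one_smul F w']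
  exact inE_add hf hp hw (inE_smul hf hw' _)

/-- The vectors along which all root elements at `p` lie in `M`, as a subspace. -/
def eSub (hp : f p p = 0) : Submodule F (ι → F) where
  carrier := {w | InE f M p w}
  zero_mem' := inE_zero hf
  add_mem' := inE_add hf hp
  smul_mem' c _ h := inE_smul hf h c

lemma mem_eSub (hp : f p p = 0) {w : ι → F} : w ∈ eSub (M := M) hf hp ↔ InE f M p w := Iff.rfl

/-- A full vector orthogonal to `p` pairing with a member is a member. -/
lemma inE_of_pair (hp : f p p = 0) {w q : ι → F} (hw : InE f M p w) (hq : UFull σ f M q) (hqp : f q p = 0)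
    (hne : f w q ≠ 0) : InE f M p q := by
  obtain ⟨c, hc0, hc⟩ := exists_skew hf.ne_refl hf.involutive
  obtain ⟨t, ht⟩ : ∃ t, t = uT f q c := ⟨_, rfl⟩
  have htM : t ∈ M := ht ▸ hq.2 c hc
  have hti : Iso f t := ht ▸ iso_uT hf hq.1 hc
  have htp : t.val *ᵥ p = p := by
    rw [ht, uT_mulVec hf hq.1, (eq_zero_comm hf).1 hqp, mul_zero, zero_smul, add_zero]
  have htw : InE f M p (t.val *ᵥ w) := by
    refine ⟨by rw [← htp, hti]; exact hw.1, fun k => ?_⟩
    obtain ⟨g, hg, ν, h⟩ := hw.2 k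
    refine ⟨t * g * t⁻¹, mul_mem (mul_mem htM hg) (inv_mem htM), ν, fun v => ?_⟩
    obtain ⟨y, rfl⟩ : ∃ y, v = t.val *ᵥ y := ⟨_, (Transvec.mulVec_inv_cancel _ v).symm⟩
    rw [Units.val_mul, Units.val_mul, ← mulVec_mulVec, ← mulVec_mulVec, Transvec.inv_mulVec_cancel, h,
      show k • t.val *ᵥ w = t.val *ᵥ (k • w) from (mulVec_smul _ _ _).symm, hti,
      show f (t.val *ᵥ y) p = f y p from by conv_lhs => rw [← htp, hti]]
    simp only [mulVec_add, mulVec_sub, mulVec_smul, htp]
  have hd := inE_sub hf hp htw hw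
  rw [ht, uT_mulVec hf hq.1, add_sub_cancel_left] at hd
  have := inE_smul hf hd (c * f w q)⁻¹
  rwa [inv_smul_smul₀ (mul_ne_zero hc0 hne)] at this

/-- Full isotropic vectors spread from a hyperbolic pair once every orthogonal vector is a member. -/
lemma ufull_of_inE (hM : ∀ g ∈ M, Iso f g) {w v : ι → F} (hp : UFull σ f M p) (hw : UFull σ f M w)
    (hwp : f w p = 1) (hall : ∀ y, f y p = 0 → InE f M p y) (hv : f v v = 0) (hvp : f v p ≠ 0) :
    UFull σ f M v := by
  obtain ⟨v₀, hv₀⟩ : ∃ v₀, v₀ = (f v p)⁻¹ • v := ⟨_, rfl⟩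
  have hv0p : f v₀ p = 1 := by rw [hv₀, hf.smul_left, inv_mul_cancel₀ hvp]
  have hv0 : f v₀ v₀ = 0 := by rw [hv₀, hf.smul_left, smul_right' hf, hv, mul_zero, mul_zero]
  suffices h : UFull σ f M v₀ by
    have := ufull_smul hf h (f v p)
    rwa [hv₀, smul_inv_smul₀ hvp] at this
  obtain ⟨g, hg, ν, h⟩ := (hall (v₀ - w) (by rw [sub_left' hf, hv0p, hwp, sub_self])).2 1
  have hgw := ufull_conj hf hg (hM g hg) hw
  rw [h, one_smul, hwp, one_smul, mul_one] at hgw
  obtain ⟨μ, hμ⟩ : ∃ μ, μ = ν - f w (v₀ - w) := ⟨_, rfl⟩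
  rw [show w + (v₀ - w) - f w (v₀ - w) • p + ν • p = v₀ + μ • p by rw [hμ, sub_smul]; abel] at hgw
  have hμs : μ + σ μ = 0 := by
    have h1 := hgw.1
    rw [hf.add_left, Unitary.add_right' hf, Unitary.add_right' hf, hf.smul_left, hf.smul_left, smul_right' hf,
      smul_right' hf, hv0, hp.1, hf.herm p v₀, hv0p, map_one] at h1
    linear_combination h1
  have hneg : -μ + σ (-μ) = 0 := by rw [map_neg]; linear_combination -hμs
  have := ufull_conj hf (hp.2 _ hneg) (iso_uT hf hp.1 hneg) hgw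
  rwa [uT_mulVec hf hp.1, hf.add_left, hf.smul_left, hp.1, hv0p, mul_zero, add_zero, mul_one, neg_smul,
    add_neg_cancel_right] at this

end General

variable {F : Type*} [Field F] [Finite F] {a b : ℕ} {σ : F ≃+* F}
  {f : (Fin a × Fin b → F) → (Fin a × Fin b → F) → F} {f₁ : (Fin a → F) → (Fin a → F) → F}
  {f₂ : (Fin b → F) → (Fin b → F) → F} {M : Subgroup (GL (Fin a × Fin b) F)}

/-- All pure vectors with isotropic components carry all transvections as soon as one does. -/
theorem full_pure (C : Ctx σ f f₁ f₂ M) {x₀ : Fin a → F} {e₀ : Fin b → F} (hx₀ : x₀ ≠ 0)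
    (he₀ : e₀ ≠ 0) (hxx₀ : f₁ x₀ x₀ = 0) (hee₀ : f₂ e₀ e₀ = 0) (h : UFull σ f M (pt x₀ e₀)) :
    ∀ x e, f₁ x x = 0 → f₂ e e = 0 → UFull σ f M (pt x e) := by
  have T := C.tens
  have hu := T.uni
  have h1 := T.left
  have h2 := T.right
  have hda : 2 ≤ Fintype.card (Fin a) := by rw [Fintype.card_fin]; exact C.dimA
  have hdb : 2 ≤ Fintype.card (Fin b) := by rw [Fintype.card_fin]; exact C.dimB
  -- all pure vectors with isotropic components
  have hpure : ∀ x e, x ≠ 0 → e ≠ 0 → f₁ x x = 0 → f₂ e e = 0 → UFull σ f M (pt x e) := by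
    intro x e hx he hxx hee
    obtain ⟨gA, hgA, k, hk, hgk⟩ := exists_move_iso h1 hda hx₀ hx hxx₀ hxx
    obtain ⟨gB, hgB, l, hl, hgl⟩ := exists_move_iso h2 hdb he₀ he hee₀ hee
    have h' := ufull_conj hu (mul_mem (C.transA_mem hgA) (C.transB_mem hgB))
      (C.iso (mul_mem (C.transA_mem hgA) (C.transB_mem hgB))) h
    rw [Units.val_mul, ← mulVec_mulVec, kr_apply, kr_apply, Units.val_one, one_mulVec, Units.val_one, one_mulVec,
      hgk, hgl, pt_smul_left, pt_smul_right, smul_smul] at h'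
    have := ufull_smul hu h' (k * l)⁻¹
    rwa [inv_smul_smul₀ (mul_ne_zero hk hl)] at this
  intro x e hxx hee
  by_cases hx : x = 0
  · rw [hx, pt_zero_left]
    refine ⟨zero_left' hu 0, fun c _ => ?_⟩
    rw [show uT f (0 : Fin a × Fin b → F) c = 1 from gl_ext fun v => by
      rw [uT_mulVec hu (zero_left' hu 0)]; simp]
    exact one_mem M
  by_cases he : e = 0
  · rw [he, pt_zero_right]
    refine ⟨zero_left' hu 0, fun c _ => ?_⟩
    rw [show uT f (0 : Fin a × Fin b → F) c = 1 from gl_ext fun v => by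
      rw [uT_mulVec hu (zero_left' hu 0)]; simp]
    exact one_mem M
  exact hpure x e hx he hxx hee

/-- A non-zero vector pairs with some pure vector with isotropic components. -/
theorem exists_pure_pair (C : Ctx σ f f₁ f₂ M) {v : Fin a × Fin b → F} (hv0 : v ≠ 0) :
    ∃ x e, f₁ x x = 0 ∧ f₂ e e = 0 ∧ f v (pt x e) ≠ 0 := by
  have T := C.tens
  have hu := T.uni
  have h1 := T.left
  have h2 := T.right
  have hda : 2 ≤ Fintype.card (Fin a) := by rw [Fintype.card_fin]; exact C.dimA
  have hdb : 2 ≤ Fintype.card (Fin b) := by rw [Fintype.card_fin]; exact C.dimB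
  by_contra hc
  push Not at hc
  refine hv0 (T.eq_of_ctr fun u => ?_)
  rw [map_zero]
  by_contra hne
  obtain ⟨z, hz, hzne⟩ := exists_iso_ne h1 hda hne
  obtain ⟨K, hK⟩ : ∃ K : Submodule F (Fin b → F), ∀ u, u ∈ K ↔ ctr f₂ u v = 0 ∨ f v (pt z u) = 0 :=
    ⟨{ carrier := {u | f v (pt z u) = 0}
       zero_mem' := by simp [pt_zero_right, zero_right' hu]
       add_mem' := fun {p q} hp hq => by
         rw [Set.mem_setOf_eq] at hp hq ⊢
         rw [pt_add_right, Unitary.add_right' hu, hp, hq, add_zero]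
       smul_mem' := fun c p hp => by
         rw [Set.mem_setOf_eq] at hp ⊢
         rw [pt_smul_right, smul_right' hu, hp, mul_zero] }, fun u => ⟨Or.inr, fun h => h.elim (fun h => by
        change f v (pt z u) = 0
        rw [T.f_pt, h, zero_left' h1]) id⟩⟩
  have hall : u ∈ K := Submodule.span_le.2 (fun w hw => (hK w).2 (Or.inr (hc z w hz hw))) (span_iso h2 hdb u)
  rcases (hK u).1 hall with h0 | h0
  · exact hne h0
  · rw [T.f_pt] at h0
    exact hzne ((eq_zero_comm h1).1 h0)

/-- No pure vector with isotropic components carries all transvections, the second factor being large. -/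
theorem no_full_right (C : Ctx σ f f₁ f₂ M) (hb : 4 ≤ b) {x₀ : Fin a → F} {e₀ : Fin b → F} (hx₀ : x₀ ≠ 0)
    (he₀ : e₀ ≠ 0) (hxx₀ : f₁ x₀ x₀ = 0) (hee₀ : f₂ e₀ e₀ = 0) (h : UFull σ f M (pt x₀ e₀)) : False := by
  have T := C.tens
  have hu := T.uni
  have h1 := T.left
  have h2 := T.right
  have hdim : 4 ≤ Fintype.card (Fin b) := by rwa [Fintype.card_fin]
  have hda : 2 ≤ Fintype.card (Fin a) := by rw [Fintype.card_fin]; exact C.dimA
  have hfull := full_pure C hx₀ he₀ hxx₀ hee₀ h
  refine C.ne fun v hv => ?_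
  by_cases hv0 : v = 0
  · rw [hv0, ← pt_zero_left (a := a) (b := b) (0 : Fin b → F)]
    exact hfull _ _ (zero_left' h1 0) (zero_left' h2 0)
  obtain ⟨x, e, hxx, hee, hne⟩ := exists_pure_pair C hv0
  have hx0 : x ≠ 0 := fun h0 => hne (by rw [h0, pt_zero_left, zero_right' hu])
  have he0 : e ≠ 0 := fun h0 => hne (by rw [h0, pt_zero_right, zero_right' hu])
  obtain ⟨x', hx'x', hx'x, hxx'⟩ := exists_partner h1 hx0 hxx
  obtain ⟨e', he'e', he'e, hee'⟩ := exists_partner h2 he0 hee
  obtain ⟨p, hp⟩ : ∃ p, p = pt x e := ⟨_, rfl⟩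
  rw [← hp] at hne
  have hpp : f p p = 0 := by rw [hp, T.pure, hxx, zero_mul]
  obtain ⟨s, hs0, hs⟩ := exists_skew hu.ne_refl hu.involutive
  have hσs : σ s = -s := by linear_combination hs
  -- isotropic vectors of the second factor
  have step1 : ∀ u, f₂ u u = 0 → f₂ u e = 0 → InE f M p (pt x u) := by
    intro u huu hue
    have hqp : f (pt x u) p = 0 := by rw [hp, T.pure, hue, mul_zero]
    have hq : UFull σ f M (pt x u) := hfull x u hxx huu
    have hpq : f p (pt x u) = 0 := (eq_zero_comm hu).1 hqp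
    refine ⟨hqp, fun k => ⟨uX σ f p (pt x u) (-σ k), ?_, 0, fun v => ?_⟩⟩
    · obtain ⟨l, hl⟩ : ∃ l, l = σ (-σ k / s) := ⟨_, rfl⟩
      have hsl : s * σ l = -σ k := by rw [hl, hu.involutive, mul_div_cancel₀ _ hs0]
      have hsl' : s * l = k := by
        have := congrArg σ hsl
        rw [map_mul, hu.involutive, map_neg, hu.involutive, hσs] at this
        linear_combination -this
      have hsum : p + l • pt x u = pt x (e + l • u) := by rw [hp, pt_add_right, pt_smul_right]
      have hsf : UFull σ f M (p + l • pt x u) := hsum ▸ hfull x _ hxx (by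
        simp only [h2.add_left, h2.smul_left, Unitary.add_right' h2, smul_right' h2, hee, huu, hue,
          (eq_zero_comm h2).1 hue, mul_zero, add_zero])
      have hN : s * (l * σ l) + σ (s * (l * σ l)) = 0 := by
        rw [map_mul, map_mul, hu.involutive, hσs]; ring
      have e' : uX σ f p (pt x u) (-σ k) =
          (uT f p s * uT f (pt x u) (s * (l * σ l)))⁻¹ * uT f (p + l • pt x u) s := by
        rw [eq_inv_mul_iff_mul_eq]
        refine gl_ext fun v => ?_
        simp only [Units.val_mul, ← mulVec_mulVec, uX_mulVec hu hq.1 hpq, uT_mulVec hu hpp, uT_mulVec hu hq.1,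
          uT_mulVec hu hsf.1, hu.add_left, sub_left' hu, hu.smul_left, Unitary.add_right' hu, smul_right' hu, hpp,
          hq.1, hpq, hqp, mul_zero, add_zero, sub_zero, map_neg, hu.involutive]
        rw [← hsl, ← hsl']
        module
      rw [e']
      exact mul_mem (inv_mem (mul_mem ((hp ▸ hfull x e hxx hee).2 s hs) (hq.2 _ hN))) (hsf.2 s hs)
    · rw [uX_mulVec hu hq.1 hpq, smul_right' hu, map_neg, hu.involutive]
      module
  obtain ⟨E, hE⟩ : ∃ E, E = eSub (M := M) hu hpp := ⟨_, rfl⟩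
  have hmem : ∀ w, w ∈ E ↔ InE f M p w := fun w => hE ▸ Iff.rfl
  have hspanX : ∀ u, f₂ u e = 0 → pt x u ∈ E := fun u hue => by
    have hle : Submodule.span F {v | f₂ v v = 0 ∧ f₂ v e = 0} ≤ E.comap (ptR x) :=
      Submodule.span_le.2 fun w hw => (hmem _).2 (step1 w hw.1 hw.2)
    exact hle (mem_span_iso' h2 hdim he0 hee hue)
  -- the first block
  have blockA : ∀ X u, f₂ u e = 0 → pt X u ∈ E := by
    have stepA : ∀ u, f₂ u u = 0 → f₂ u e = 0 → u ∉ Submodule.span F {e} → ∀ X, pt X u ∈ E := by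
      intro u huu hue hun
      obtain ⟨w, hww, hwe, hwu⟩ := exists_iso_test' h2 hdim he0 hee hun
      have hgood : ∀ X, f₁ X X = 0 → f₁ x X ≠ 0 → pt X u ∈ E := fun X hX hxX =>
        (hmem _).2 (inE_of_pair hu hpp ((hmem _).1 (hspanX w hwe)) (hfull X u hX huu)
          (by rw [hp, T.pure, hue, mul_zero]) (by rw [T.pure]; exact mul_ne_zero hxX hwu))
      have hne' : ∀ X, f₁ X x ≠ 0 → pt X u ∈ E := fun X hX => by
        obtain ⟨k, hk⟩ := exists_iso_shift h1 hxx hX
        have := E.sub_mem (hgood _ hk (fun h0 => hX (by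
          have := (eq_zero_comm h1).1 h0
          rwa [h1.add_left, h1.smul_left, hxx, mul_zero, add_zero] at this))) (E.smul_mem k (hspanX u hue))
        rwa [pt_add_left, pt_smul_left, add_sub_cancel_right] at this
      intro X
      by_cases hX : f₁ X x = 0
      · have := E.sub_mem (hne' (X + x') (by rw [h1.add_left, hX, hx'x, zero_add]; exact one_ne_zero))
          (hne' x' (by rw [hx'x]; exact one_ne_zero))
        rwa [pt_add_left, add_sub_cancel_right] at this
      · exact hne' X hX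
    intro X u hue
    obtain ⟨S, hS⟩ : ∃ S, S = E.comap (ptR X) := ⟨_, rfl⟩
    have hmemS : ∀ {u}, u ∈ S ↔ pt X u ∈ E := fun {u} => hS ▸ Iff.rfl
    have hle : Submodule.span F {v | f₂ v v = 0 ∧ f₂ v e = 0} ≤ S := Submodule.span_le.2 fun w hw => by
      by_cases hwn : w ∈ Submodule.span F {e}
      · obtain ⟨w', hw', hw'e, hw'n⟩ := exists_iso_perp' h2 hdim he0 hee
        have hsum : f₂ (w' + w) (w' + w) = 0 := by
          obtain ⟨k, rfl⟩ := Submodule.mem_span_singleton.1 hwn
          simp only [h2.add_left, h2.smul_left, Unitary.add_right' h2, smul_right' h2, hw', hee, hw'e,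
            (eq_zero_comm h2).1 hw'e, mul_zero, add_zero]
        have h1' := stepA _ hsum (by rw [h2.add_left, hw'e, hw.2, add_zero])
          (fun hm => hw'n (by simpa using Submodule.sub_mem _ hm hwn)) X
        exact hmemS.2 (by
          have := E.sub_mem h1' (stepA w' hw' hw'e hw'n X)
          rwa [pt_add_right, add_sub_cancel_left] at this)
      · exact hmemS.2 (stepA w hw.1 hw.2 hwn X)
    exact hmemS.1 (hle (mem_span_iso' h2 hdim he0 hee hue))
  -- the second block
  have blockB : ∀ u, pt x u ∈ E := by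
    intro u
    have hle : Submodule.span F {v | f₂ v v = 0} ≤ E.comap (ptR x) := Submodule.span_le.2 fun w hw => by
      by_cases hwn : w ∈ Submodule.span F {e}
      · obtain ⟨k, rfl⟩ := Submodule.mem_span_singleton.1 hwn
        exact hspanX _ (by rw [h2.smul_left, hee, mul_zero])
      · obtain ⟨y, hye, hyw⟩ := exists_perp_pair h2 hwn
        change pt x w ∈ E
        exact (hmem _).2 (inE_of_pair hu hpp ((hmem _).1 (blockA x' y hye)) (hfull x w hxx hw)
          (by rw [hp, T.pure, hxx, zero_mul]) (by rw [T.pure, hx'x, one_mul]; exact hyw))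
    exact hle (span_iso h2 (by omega) u)
  -- the last block
  have blockC : ∀ y, f₁ y x = 0 → f₁ y x' = 0 → pt y e' ∈ E := by
    intro y hyx hyx'
    have hxy : f₁ x y = 0 := (eq_zero_comm h1).1 hyx
    have hx'y : f₁ x' y = 0 := (eq_zero_comm h1).1 hyx'
    obtain ⟨ν, hν, hν0⟩ : ∃ ν, ν + σ ν + f₁ y y = 0 ∧ ν ≠ 0 := by
      obtain ⟨ν, hν⟩ := exists_eich_scalar h1 y
      by_cases hν0 : ν = 0
      · exact ⟨ν + s, by rw [map_add]; linear_combination hν + hs, by rw [hν0, zero_add]; exact hs0⟩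
      · exact ⟨ν, hν, hν0⟩
    obtain ⟨μ, hμ⟩ : ∃ μ, μ = s / ν := ⟨_, rfl⟩
    have hμν : μ * ν = s := by rw [hμ, div_mul_cancel₀ _ hν0]
    have he'n : e' ∉ Submodule.span F {e} := fun hm => by
      obtain ⟨k, rfl⟩ := Submodule.mem_span_singleton.1 hm
      rw [h2.smul_left, hee, mul_zero] at he'e
      exact zero_ne_one he'e
    have hen : e ∉ Submodule.span F {e'} := fun hm => by
      obtain ⟨k, rfl⟩ := Submodule.mem_span_singleton.1 hm
      rw [smul_right' h2, he'e', mul_zero] at he'e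
      exact zero_ne_one he'e
    obtain ⟨z, hze, hze', hzz⟩ := exists_norm_pair h2 (by omega) hee he'e' he'e (γ := -(μ + σ μ))
      (by rw [map_neg, map_add, hu.involutive, add_comm])
    have hez : f₂ e z = 0 := (eq_zero_comm h2).1 hze
    have he'z : f₂ e' z = 0 := (eq_zero_comm h2).1 hze'
    obtain ⟨x₂, hx₂⟩ : ∃ x₂, x₂ = x' + y + ν • x := ⟨_, rfl⟩
    obtain ⟨u₂, hu₂⟩ : ∃ u₂, u₂ = e' + z + μ • e := ⟨_, rfl⟩
    have hx₂x₂ : f₁ x₂ x₂ = 0 := by
      simp only [hx₂, h1.add_left, h1.smul_left, Unitary.add_right' h1, smul_right' h1, hxx, hx'x', hx'x, hxx', hyx,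
        hxy, hyx', hx'y]
      linear_combination hν
    have hu₂u₂ : f₂ u₂ u₂ = 0 := by
      simp only [hu₂, h2.add_left, h2.smul_left, Unitary.add_right' h2, smul_right' h2, hee, he'e', he'e, hee', hze,
        hez, hze', he'z, hzz]
      ring
    have e1 : f (pt x' e') (pt x₂ u₂) = -s := by
      rw [T.pure, hx₂, hu₂]
      simp only [Unitary.add_right' h1, smul_right' h1, Unitary.add_right' h2, smul_right' h2, hx'x', hx'y, hx'x,
        he'e', he'z, he'e, zero_add, mul_one]
      rw [← map_mul, mul_comm, hμν, hσs]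
    have hcs : s⁻¹ + σ s⁻¹ = 0 := by rw [map_inv₀, hσs, inv_neg, add_neg_cancel]
    have hq := uT_add_smul hu (hfull x' e' hx'x' he'e') (hfull x₂ u₂ hx₂x₂ hu₂u₂).1 hcs
      ((hfull x₂ u₂ hx₂x₂ hu₂u₂).2 _ hcs)
    rw [e1, mul_neg, inv_mul_cancel₀ hs0, neg_one_smul, ← sub_eq_add_neg] at hq
    have hqp : f (pt x' e' - pt x₂ u₂) p = 0 := by
      rw [sub_left' hu, hp, T.pure, T.pure, hx'x, he'e, hx₂, hu₂]
      simp only [h1.add_left, h1.smul_left, h2.add_left, h2.smul_left, hx'x, hyx, hxx, he'e, hze, hee]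
      ring
    have hμ0 : μ ≠ 0 := hμ ▸ div_ne_zero hs0 hν0
    have hqE := inE_of_pair hu hpp ((hmem _).1 (blockB e')) hq hqp (by
      rw [sub_right' hu, T.pure, T.pure, hxx', he'e', mul_zero, zero_sub, neg_ne_zero, hx₂, hu₂]
      simp only [Unitary.add_right' h1, smul_right' h1, Unitary.add_right' h2, smul_right' h2, hxx', hxy, hxx, he'e',
        he'z, he'e, mul_zero, add_zero, zero_add, mul_one, one_mul]
      exact (map_ne_zero_iff _ σ.injective).2 hμ0)
    have h3 := E.neg_mem (E.add_mem ((hmem _).2 hqE) (E.add_mem (blockA x₂ (z + μ • e) (by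
      rw [h2.add_left, h2.smul_left, hze, hee, mul_zero, add_zero])) (E.smul_mem ν (blockB e'))))
    convert h3 using 1
    rw [hu₂, hx₂]
    simp only [pt_add_left, pt_add_right, pt_smul_left, pt_smul_right]
    module
  -- everything
  have hall : ∀ w, f w p = 0 → InE f M p w := by
    intro w hw
    rw [← hmem]
    have hX : f₁ (ctr f₂ e w) x = 0 := by rw [← T.f_pt, ← hp]; exact hw
    obtain ⟨X, hXdef⟩ : ∃ X, X = ctr f₂ e w := ⟨_, rfl⟩
    rw [← hXdef] at hX
    have hrest : w - pt X e' ∈ E := by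
      rw [hXdef, eq_sum_pt w, map_sum, ← ptL_apply, map_sum, ← Finset.sum_sub_distrib]
      refine sum_mem fun j _ => ?_
      rw [T.ctr_pt, ptL_apply, pt_smul_left, ← pt_smul_right, ← pt_sub_right]
      exact blockA _ _ (by rw [sub_left' h2, h2.smul_left, he'e, mul_one, sub_self])
    have hmain : pt X e' ∈ E := by
      have h' := blockC (X - f₁ X x' • x) (by rw [sub_left' h1, h1.smul_left, hxx, mul_zero, sub_zero, hX])
        (by rw [sub_left' h1, h1.smul_left, hxx', mul_one, sub_self])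
      have h'' := E.add_mem h' (E.smul_mem (f₁ X x') (blockB e'))
      rwa [← pt_smul_left, ← pt_add_left, sub_add_cancel] at h''
    simpa using E.add_mem hrest hmain
  exact ufull_of_inE hu (fun g hg => C.iso hg) (hp ▸ hfull x e hxx hee) (hfull x' e' hx'x' he'e')
    (by rw [hp, T.pure, hx'x, he'e, one_mul]) hall hv hne

/-- No pure vector with isotropic components carries all transvections, the factors having dimensions two and three. -/
theorem no_full_small (C : Ctx σ f f₁ f₂ M) (ha : a = 2) (hb : b = 3) {x₀ : Fin a → F} {e₀ : Fin b → F}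
    (hx₀ : x₀ ≠ 0) (he₀ : e₀ ≠ 0) (hxx₀ : f₁ x₀ x₀ = 0) (hee₀ : f₂ e₀ e₀ = 0)
    (h : UFull σ f M (pt x₀ e₀)) : False := by
  have T := C.tens
  have hu := T.uni
  have h1 := T.left
  have h2 := T.right
  have hfull := full_pure C hx₀ he₀ hxx₀ hee₀ h
  refine C.ne fun v hv => ?_
  by_cases hv0 : v = 0
  · rw [hv0, ← pt_zero_left (a := a) (b := b) (0 : Fin b → F)]
    exact hfull _ _ (zero_left' h1 0) (zero_left' h2 0)
  obtain ⟨x, e, hxx, hee, hne⟩ := exists_pure_pair C hv0
  have hx0 : x ≠ 0 := fun h0 => hne (by rw [h0, pt_zero_left, zero_right' hu])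
  have he0 : e ≠ 0 := fun h0 => hne (by rw [h0, pt_zero_right, zero_right' hu])
  obtain ⟨x', hx'x', hx'x, hxx'⟩ := exists_partner h1 hx0 hxx
  obtain ⟨e', he'e', he'e, hee'⟩ := exists_partner h2 he0 hee
  obtain ⟨w, hwe, hwe', hww⟩ := exists_aniso_pair h2 (by rw [Fintype.card_fin]; omega) hee he'e' he'e
  have hew : f₂ e w = 0 := (eq_zero_comm h2).1 hwe
  have he'w : f₂ e' w = 0 := (eq_zero_comm h2).1 hwe'
  have hσn : σ (f₂ w w) = f₂ w w := self_fixed h2 w
  obtain ⟨p, hp⟩ : ∃ p, p = pt x e := ⟨_, rfl⟩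
  rw [← hp] at hne
  have hpp : f p p = 0 := by rw [hp, T.pure, hxx, zero_mul]
  obtain ⟨s, hs0, hs⟩ := exists_skew hu.ne_refl hu.involutive
  have hσs : σ s = -s := by linear_combination hs
  -- root elements along the isotropic vectors of the pure subspace at x
  have hroot : ∀ u, f₂ u u = 0 → f₂ u e = 1 → ∃ g ∈ M, ∃ ν : F, ∀ v,
      g.val *ᵥ v = v + f v p • pt x u - f v (pt x u) • p + (ν * f v p) • p := by
    intro u huu hue
    have hqp : f (pt x u) p = 0 := by rw [hp, T.pure, hxx, zero_mul]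
    have hpq : f p (pt x u) = 0 := (eq_zero_comm hu).1 hqp
    obtain ⟨l, hl⟩ : ∃ l, l = -s⁻¹ := ⟨_, rfl⟩
    have hσl : σ l = s⁻¹ := by rw [hl, map_neg, map_inv₀, hσs, inv_neg, neg_neg]
    have hsum : pt x u + l • p = pt x (u + l • e) := by rw [hp, pt_add_right, pt_smul_right]
    have hsf : UFull σ f M (pt x u + l • p) := hsum ▸ hfull x _ hxx (by
      simp only [h2.add_left, h2.smul_left, Unitary.add_right' h2, smul_right' h2, huu, hee, hue,
        show f₂ e u = 1 by rw [h2.herm, hue, map_one]]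
      rw [hσl, hl]
      ring)
    have hqf := hfull x u hxx huu
    refine ⟨(uT f (pt x u) s)⁻¹ * uT f (pt x u + l • p) s, mul_mem (inv_mem (hqf.2 s hs)) (hsf.2 s hs),
      s * (l * σ l), fun v => mulVec_injective (uT f (pt x u) s) ?_⟩
    simp only
    rw [Units.val_mul, ← mulVec_mulVec, Transvec.mulVec_inv_cancel]
    simp only [uT_mulVec hu hsf.1, uT_mulVec hu hqf.1, hu.add_left, sub_left' hu, hu.smul_left,
      Unitary.add_right' hu, smul_right' hu, hpq, hqf.1, hσl, mulVec_add, mulVec_sub, mulVec_smul, mul_zero]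
    rw [hl]
    match_scalars <;> field_simp <;> ring
  -- the anisotropic direction
  have hwE : InE f M p (pt x w) := by
    refine ⟨by rw [hp, T.pure, hxx, zero_mul], fun k => ?_⟩
    obtain ⟨ν₀, hν₀⟩ := exists_eich_scalar h2 (k • w)
    have hu₁ : f₂ (e' + k • w + ν₀ • e) (e' + k • w + ν₀ • e) = 0 := by
      simp only [h2.smul_left, smul_right' h2] at hν₀
      simp only [h2.add_left, h2.smul_left, Unitary.add_right' h2, smul_right' h2, hee, he'e', he'e, hee', hwe, hwe',
        hew, he'w]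
      linear_combination hν₀
    obtain ⟨g₁, hg₁, ν₁, hg₁v⟩ := hroot _ hu₁ (by
      simp only [h2.add_left, h2.smul_left, he'e, hwe, hee]; ring)
    obtain ⟨g₀, hg₀, ν₂, hg₀v⟩ := hroot e' he'e' he'e
    refine ⟨g₀⁻¹ * g₁, mul_mem (inv_mem hg₀) hg₁, ν₁ - ν₂ + ν₀ - σ ν₀, fun v => mulVec_injective g₀ ?_⟩
    simp only
    rw [Units.val_mul, ← mulVec_mulVec, Transvec.mulVec_inv_cancel, hg₁v, hg₀v]
    simp only [hp, hu.add_left, sub_left' hu, hu.smul_left, Unitary.add_right' hu, smul_right' hu, pt_add_right,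
      pt_smul_right, T.pure, hxx, zero_mul, mul_zero, add_zero, sub_zero, smul_add, smul_smul]
    module
  obtain ⟨E, hE⟩ : ∃ E, E = eSub (M := M) hu hpp := ⟨_, rfl⟩
  have hmem : ∀ w, w ∈ E ↔ InE f M p w := fun w => hE ▸ Iff.rfl
  have hpf : UFull σ f M p := hp ▸ hfull x e hxx hee
  -- a moved isotropic vector
  have hv₁ : UFull σ f M (pt x' e' + s • pt x w) := by
    obtain ⟨g, hg, ν, hgv⟩ := hwE.2 s
    have hgf := ufull_conj hu hg (C.iso hg) (hfull x' e' hx'x' he'e')
    rw [hgv, show f (pt x' e') p = 1 by rw [hp, T.pure, hx'x, he'e, one_mul], smul_right' hu,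
      show f (pt x' e') (pt x w) = 0 by rw [T.pure, he'w, mul_zero], mul_zero, zero_smul, sub_zero, one_smul,
      mul_one] at hgf
    have hνs : -ν + σ (-ν) = 0 := by
      have h0 := hgf.1
      simp only [hp, hu.add_left, hu.smul_left, Unitary.add_right' hu, smul_right' hu, T.pure, hxx, hx'x', hx'x, hxx',
        he'e', he'e, hee', he'w, hwe', hew, hwe] at h0
      rw [map_neg]
      linear_combination -h0
    have := ufull_conj hu (hpf.2 _ hνs) (iso_uT hu hpp hνs) hgf
    rwa [uT_mulVec hu hpp, show f (pt x' e' + s • pt x w + ν • p) p = 1 by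
      simp only [hp, hu.add_left, hu.smul_left, T.pure, hxx, hx'x, he'e]; ring, mul_one, neg_smul,
      add_neg_cancel_right] at this
  -- members in the other pure subspace
  have hX : ∀ μ, μ + σ μ + f₂ w w = 0 → pt x' (w + μ • e) ∈ E := by
    intro μ hμ
    have hu₂ : f₂ (e' + w + μ • e) (e' + w + μ • e) = 0 := by
      simp only [h2.add_left, h2.smul_left, Unitary.add_right' h2, smul_right' h2, hee, he'e', he'e, hee', hwe, hwe',
        hew, he'w]
      linear_combination hμ
    have hv₂ := hfull x' _ hx'x' hu₂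
    have e1 : f (pt x' e' + s • pt x w) (pt x' (e' + w + μ • e)) = s * f₂ w w := by
      simp only [hu.add_left, hu.smul_left, T.pure, hx'x', hxx', Unitary.add_right' h2, smul_right' h2, hwe', hwe]
      ring
    obtain ⟨c, hc⟩ : ∃ c, c = -(s * f₂ w w)⁻¹ := ⟨_, rfl⟩
    have hcs : c + σ c = 0 := by
      rw [hc, map_neg, map_inv₀, map_mul, hσn, hσs, neg_mul, inv_neg, neg_neg, neg_add_cancel]
    have hq := uT_add_smul hu hv₁ hv₂.1 hcs (hv₂.2 _ hcs)
    rw [e1, hc, neg_mul, inv_mul_cancel₀ (mul_ne_zero hs0 hww), neg_one_smul, ← sub_eq_add_neg] at hq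
    have hqE := inE_of_pair hu hpp hwE hq (by
      simp only [hp, sub_left' hu, hu.add_left, hu.smul_left, T.pure, hxx, hx'x, h2.add_left, h2.smul_left, he'e, hwe,
        hee]
      ring) (by
      simp only [sub_right' hu, Unitary.add_right' hu, smul_right' hu, T.pure, hxx, hxx', Unitary.add_right' h2,
        smul_right' h2, hwe', hwe]
      simpa using hww)
    have := E.sub_mem (E.smul_mem s ((hmem _).2 hwE)) ((hmem _).2 hqE)
    convert this using 1
    simp only [pt_add_right]
    abel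
  obtain ⟨μ, hμ⟩ := exists_eich_scalar h2 w
  have hx'e : pt x' e ∈ E := by
    have := E.smul_mem s⁻¹ (E.sub_mem (hX (μ + s) (by rw [map_add]; linear_combination hμ + hs)) (hX μ hμ))
    rwa [← pt_sub_right, ← pt_smul_right, add_sub_add_left_eq_sub, ← sub_smul, add_sub_cancel_left,
      inv_smul_smul₀ hs0] at this
  have hx'w : pt x' w ∈ E := by
    have := E.sub_mem (hX μ hμ) (E.smul_mem μ hx'e)
    rwa [pt_add_right, pt_smul_right, add_sub_cancel_right] at this
  have hxe' : pt x e' ∈ E := (hmem _).2 (inE_of_pair hu hpp ((hmem _).1 hx'e) (hfull x e' hxx he'e')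
    (by rw [hp, T.pure, hxx, zero_mul]) (by rw [T.pure, hx'x, hee', one_mul]; exact one_ne_zero))
  have hpE : p ∈ E := (hmem _).2 ⟨hpp, fun k => ⟨1, one_mem M, σ k - k, fun v => by
    rw [Units.val_one, one_mulVec, smul_right' hu]; module⟩⟩
  -- the two bases
  have hA : ∀ y : Fin a → F, ∃ i j : F, y = i • x + j • x' := by
    obtain ⟨ψ, hψ⟩ : ∃ ψ : (Fin 2 → F) →ₗ[F] (Fin a → F), ∀ c, ψ c = c 0 • x + c 1 • x' :=
      ⟨(LinearMap.proj 0).smulRight x + (LinearMap.proj 1).smulRight x', fun c => rfl⟩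
    have hinj : Function.Injective ψ := (injective_iff_map_eq_zero ψ).2 fun c hc => by
      rw [hψ] at hc
      have e1 := congrArg (fun z => f₁ z x') hc
      have e2 := congrArg (fun z => f₁ z x) hc
      simp only [h1.add_left, h1.smul_left, hxx', hx'x', hxx, hx'x, zero_left' h1, mul_one, mul_zero, add_zero,
        zero_add] at e1 e2
      funext i
      fin_cases i
      exacts [e1, e2]
    intro y
    obtain ⟨c, hc⟩ := (LinearMap.injective_iff_surjective_of_finrank_eq_finrank
      (by rw [Module.finrank_fin_fun, Module.finrank_fin_fun, ha])).1 hinj y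
    exact ⟨c 0, c 1, by rw [← hc, hψ]⟩
  have hB : ∀ y : Fin b → F, ∃ i j k : F, y = i • e + j • e' + k • w := by
    obtain ⟨ψ, hψ⟩ : ∃ ψ : (Fin 3 → F) →ₗ[F] (Fin b → F), ∀ c, ψ c = c 0 • e + c 1 • e' + c 2 • w :=
      ⟨(LinearMap.proj 0).smulRight e + (LinearMap.proj 1).smulRight e' + (LinearMap.proj 2).smulRight w, fun c => rfl⟩
    have hinj : Function.Injective ψ := (injective_iff_map_eq_zero ψ).2 fun c hc => by
      rw [hψ] at hc
      have e1 := congrArg (fun z => f₂ z e') hc
      have e2 := congrArg (fun z => f₂ z e) hc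
      have e3 := congrArg (fun z => f₂ z w) hc
      simp only [h2.add_left, h2.smul_left, hee', he'e', hwe', hee, he'e, hwe, hew, he'w, zero_left' h2, mul_one,
        mul_zero, add_zero, zero_add] at e1 e2 e3
      funext i
      fin_cases i
      exacts [e1, e2, (mul_eq_zero.1 e3).resolve_right hww]
    intro y
    obtain ⟨c, hc⟩ := (LinearMap.injective_iff_surjective_of_finrank_eq_finrank
      (by rw [Module.finrank_fin_fun, Module.finrank_fin_fun, hb])).1 hinj y
    exact ⟨c 0, c 1, c 2, by rw [← hc, hψ]⟩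
  have htop : ∀ y, y ∈ E ⊔ Submodule.span F {pt x' e'} := fun y => by
    rw [eq_sum_pt y]
    refine sum_mem fun l _ => ?_
    obtain ⟨i, j, h'⟩ := hA (fun i => y (i, l))
    obtain ⟨i', j', k', h''⟩ := hB (Pi.single l 1)
    rw [h', h'', pt_add_left, pt_smul_left, pt_smul_left]
    simp only [pt_add_right, pt_smul_right]
    have m1 := Submodule.mem_sup_left (T := Submodule.span F {pt x' e'}) (hp ▸ hpE : pt x e ∈ E)
    have m2 := Submodule.mem_sup_left (T := Submodule.span F {pt x' e'}) hxe'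
    have m3 := Submodule.mem_sup_left (T := Submodule.span F {pt x' e'}) ((hmem _).2 hwE)
    have m4 := Submodule.mem_sup_left (T := Submodule.span F {pt x' e'}) hx'e
    have m5 : pt x' e' ∈ E ⊔ Submodule.span F {pt x' e'} :=
      Submodule.mem_sup_right (Submodule.mem_span_singleton_self _)
    have m6 := Submodule.mem_sup_left (T := Submodule.span F {pt x' e'}) hx'w
    refine add_mem (Submodule.smul_mem _ _ (add_mem (add_mem ?_ ?_) ?_))
      (Submodule.smul_mem _ _ (add_mem (add_mem ?_ ?_) ?_)) <;> refine Submodule.smul_mem _ _ ?_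
    exacts [m1, m2, m3, m4, m5, m6]
  have hall : ∀ y, f y p = 0 → InE f M p y := fun y hy => by
    obtain ⟨z, hz, _, hr, rfl⟩ := Submodule.mem_sup.1 (htop y)
    obtain ⟨c, rfl⟩ := Submodule.mem_span_singleton.1 hr
    have hc : c = 0 := by
      rw [hu.add_left, hu.smul_left, ((hmem _).1 hz).1, hp, T.pure, hx'x, he'e] at hy
      simpa using hy
    rw [hc, zero_smul, add_zero]
    exact (hmem _).1 hz
  exact ufull_of_inE hu (fun g hg => C.iso hg) hpf (hfull x' e' hx'x' he'e')
    (by rw [hp, T.pure, hx'x, he'e, one_mul]) hall hv hne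

/-- No pure vector with isotropic components carries all transvections. -/
theorem no_full (C : Ctx σ f f₁ f₂ M) {x : Fin a → F} {e : Fin b → F} (hx : x ≠ 0) (he : e ≠ 0) (hxx : f₁ x x = 0)
    (hee : f₂ e e = 0) (h : UFull σ f M (pt x e)) : False := by
  have key : UFull σ (fun v w => f (swapV v) (swapV w)) (M.map (swapEquiv a b F).toMonoidHom) (pt e x) := by
    refine ⟨?_, fun c hc => ⟨_, h.2 c hc, ?_⟩⟩
    · simpa only [← swapV_pt x e, swapV_swapV] using h.1
    · refine gl_ext fun w => ?_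
      have hs : f (swapV (pt e x)) (swapV (pt e x)) = 0 := by simpa only [swapV_pt] using h.1
      rw [uT_mulVec C.swap.tens.uni hs]
      change (swapEquiv a b F (uT f (pt x e) c)).val *ᵥ w = _
      conv_lhs => rw [← swapV_swapV w, swapEquiv_mulVec, uT_mulVec C.tens.uni h.1]
      rw [swapV_pt]
      funext p
      simp [swapV, pt, mul_comm]
  rcases C.big with ha | hb | ⟨ha, hb⟩ | ⟨ha, hb⟩
  · exact no_full_right C.swap ha he hx hee hxx key
  · exact no_full_right C hb hx he hxx hee h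
  · exact no_full_small C ha hb hx he hxx hee h
  · exact no_full_small C.swap hb ha he hx hee hxx key

end CfsgLib.Classical22.TensorMax.UnitT
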