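/-
Central shears along a pure subspace inside the group are scalar.
-/
import Cfsg.Agent.Lib.Classical22.UnitTensor.Closure

set_option autoImplicit false
set_option linter.unusedSectionVars false
set_option maxHeartbeats 800000

namespace CfsgLib.Classical22.TensorMax.UnitT

open Matrix Kronecker CfsgLib.Transvec CfsgLib.Transvec.Unitary CfsgLib.Classical22.TensorMax.SympO
open CfsgLib.Classical22.TensorMax.SpO (kr kr_apply isKron_kr)
open scoped MatrixGroups

section Scalar

variable {ι : Type} [Fintype ι] [DecidableEq ι] {F : Type*} [Field F] [Finite F] {σ : F ≃+* F}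
  {f : (ι → F) → (ι → F) → F} (hf : Cfsg.Geo.IsUnitaryForm σ f)
include hf

omit [Finite F] in
/-- A scalar with σ moving it. -/
lemma exists_moved : ∃ k : F, k - σ k ≠ 0 := by
  by_contra h
  push Not at h
  exact hf.ne_refl (RingEquiv.ext fun a => (sub_eq_zero.mp (h a)).symm)

/-- A skew operator vanishing on the diagonal of all isotropic vectors is scalar. -/
theorem scalar_of_iso_zero (hd : 2 ≤ Fintype.card ι) (S : (ι → F) →ₗ[F] (ι → F))
    (hS : ∀ x y, f (S x) y + f x (S y) = 0) (h0 : ∀ v, f v v = 0 → f (S v) v = 0) :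
    ∃ c : F, ∀ x, S x = c • x := by
  obtain ⟨u, hu0, hu⟩ := exists_iso hf hd
  obtain ⟨u', hu', h1, h1'⟩ := exists_partner hf hu0 hu
  obtain ⟨s, hs0, hs⟩ := exists_skew hf.ne_refl hf.involutive
  obtain ⟨k, hk⟩ := exists_moved hf
  have hσs : σ s = -s := by linear_combination hs
  obtain ⟨c, hc⟩ : ∃ c, c = f (S u) u' := ⟨_, rfl⟩
  have hcu : f (S u') u = c := by
    have h := h0 (u + s • u') (by
      simp only [hf.add_left, hf.smul_left, Unitary.add_right' hf, smul_right' hf, hu, hu', h1, h1', hσs]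
      ring)
    simp only [map_add, map_smul, hf.add_left, hf.smul_left, Unitary.add_right' hf, smul_right' hf, h0 u hu, h0 u' hu',
      ← hc, hσs] at h
    exact mul_left_cancel₀ hs0 (by linear_combination h)
  have hσc : σ c = -c := by
    have := hS u u'
    rw [← hc, hf.herm u (S u'), hcu] at this
    linear_combination this
  obtain ⟨K, hK⟩ : ∃ K, K = S - c • LinearMap.id := ⟨_, rfl⟩
  have hKx : ∀ x, K x = S x - c • x := fun x => by rw [hK]; rfl
  have hsk : ∀ x y, f x (K y) = - f (K x) y := fun x y => by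
    rw [hKx, hKx, sub_right' hf, sub_left' hf, hf.smul_left, smul_right' hf, hσc]
    linear_combination hS x y
  have hG : ∀ v, f v v = 0 → f (K v) v = 0 := fun v hv => by
    rw [hKx, sub_left' hf, hf.smul_left, hv, h0 v hv, mul_zero, sub_zero]
  have huu' : f (K u) u' = 0 := by rw [hKx, sub_left' hf, hf.smul_left, ← hc, h1', mul_one, sub_self]
  have hu'u : f (K u') u = 0 := by rw [hKx, sub_left' hf, hf.smul_left, hcu, h1, mul_one, sub_self]
  -- orthogonal vectors
  have hperp : ∀ {u u' : ι → F}, f u u = 0 → f u' u' = 0 → f u' u = 1 → f u u' = 1 → f (K u) u' = 0 →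
      f (K u') u = 0 → ∀ y, f y u = 0 → f y u' = 0 → f (K y) u = 0 := by
    intro u u' hu hu' h1 h1' huu' hu'u
    have key : ∀ y, f y u = 0 → f y u' = 0 → f (K y) u + σ (f (K y) u) = 0 := by
      intro y hyu hyu'
      obtain ⟨ν, hν⟩ := exists_eich_scalar hf y
      have hex : ∀ ν, ν + σ ν + f y y = 0 →
          f (K u') y + f (K y) u' + f (K y) y + σ ν * f (K y) u + ν * f (K u) y = 0 := fun ν hν => by
        have h := hG (u' + y + ν • u) (by
          simp only [hf.add_left, hf.smul_left, Unitary.add_right' hf, smul_right' hf, hu, hu', h1, h1', hyu, hyu',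
            (eq_zero_comm hf).1 hyu, (eq_zero_comm hf).1 hyu']
          linear_combination hν)
        simp only [map_add, map_smul, hf.add_left, hf.smul_left, Unitary.add_right' hf, smul_right' hf, hG u hu,
          hG u' hu', huu', hu'u] at h
        linear_combination h
      have e1 := hex ν hν
      have e2 := hex (ν + s) (by rw [map_add]; linear_combination hν + hs)
      rw [map_add, hσs] at e2
      have e3 : f (K y) u = f (K u) y := mul_left_cancel₀ hs0 (by linear_combination e1 - e2)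
      have e4 : f (K u) y = -σ (f (K y) u) := by
        rw [← hf.herm u (K y), hsk u y, neg_neg]
      linear_combination e3 + e4
    intro y hyu hyu'
    have e1 := key y hyu hyu'
    have e2 := key (k • y) (by rw [hf.smul_left, hyu, mul_zero]) (by rw [hf.smul_left, hyu', mul_zero])
    rw [map_smul, hf.smul_left, map_mul] at e2
    exact (mul_eq_zero.mp (show (k - σ k) * f (K y) u = 0 by linear_combination e2 - σ k * e1)).resolve_left hk
  have hKu : ∀ y, f y u = 0 → f y u' = 0 → f (K y) u = 0 := hperp hu hu' h1 h1' huu' hu'u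
  have hKu' : ∀ y, f y u = 0 → f y u' = 0 → f (K y) u' = 0 := fun y hy hy' =>
    hperp hu' hu h1' h1 hu'u huu' y hy' hy
  -- the orthogonal part
  have hyy : ∀ y, f y u = 0 → f y u' = 0 → f (K y) y = 0 := fun y hy hy' => by
    obtain ⟨ν, hν⟩ := exists_eich_scalar hf y
    have h := hG (u' + y + ν • u) (by
      simp only [hf.add_left, hf.smul_left, Unitary.add_right' hf, smul_right' hf, hu, hu', h1, h1', hy, hy',
        (eq_zero_comm hf).1 hy, (eq_zero_comm hf).1 hy']
      linear_combination hν)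
    have z1 : f (K u') y = 0 := by
      rw [← neg_eq_zero, ← hsk, hf.herm, hKu' y hy hy', map_zero]
    have z2 : f (K u) y = 0 := by
      rw [← neg_eq_zero, ← hsk, hf.herm, hKu y hy hy', map_zero]
    simp only [map_add, map_smul, hf.add_left, hf.smul_left, Unitary.add_right' hf, smul_right' hf, hG u hu,
      hG u' hu', huu', hu'u, hKu y hy hy', hKu' y hy hy', z1, z2] at h
    linear_combination h
  have hyz : ∀ y z, f y u = 0 → f y u' = 0 → f z u = 0 → f z u' = 0 → f (K y) z = 0 := by
    intro y z hy hy' hz hz'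
    have key : ∀ y, f y u = 0 → f y u' = 0 → f (K y) z + f (K z) y = 0 := fun y hy hy' => by
      have h := hyy (y + z) (by rw [hf.add_left, hy, hz, add_zero]) (by rw [hf.add_left, hy', hz', add_zero])
      simp only [map_add, hf.add_left, Unitary.add_right' hf, hyy y hy hy', hyy z hz hz'] at h
      linear_combination h
    have e1 := key y hy hy'
    have e2 := key (k • y) (by rw [hf.smul_left, hy, mul_zero]) (by rw [hf.smul_left, hy', mul_zero])
    rw [map_smul, hf.smul_left, smul_right' hf] at e2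
    exact (mul_eq_zero.mp (show (k - σ k) * f (K y) z = 0 by linear_combination e2 - σ k * e1)).resolve_left hk
  refine ⟨c, fun x => sub_eq_zero.mp ?_⟩
  rw [← hKx]
  by_contra hne
  obtain ⟨z, hz⟩ := (hf.nondegenerate _ hne).2
  refine hz ?_
  have dec : ∀ v : ι → F, ∃ α β : F, ∃ y, f y u = 0 ∧ f y u' = 0 ∧ v = α • u + β • u' + y := fun v => by
    refine ⟨f v u', f v u, v - f v u' • u - f v u • u', ?_, ?_, by abel⟩
    · simp only [sub_left' hf, hf.smul_left, hu, h1]; ring
    · simp only [sub_left' hf, hf.smul_left, hu', h1']; ring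
  obtain ⟨α, β, y, hy, hy', rfl⟩ := dec x
  obtain ⟨α', β', y', hz1, hz2, rfl⟩ := dec z
  have z1 : f (K u') y' = 0 := by rw [← neg_eq_zero, ← hsk, hf.herm, hKu' y' hz1 hz2, map_zero]
  have z2 : f (K u) y' = 0 := by rw [← neg_eq_zero, ← hsk, hf.herm, hKu y' hz1 hz2, map_zero]
  simp only [map_add, map_smul, hf.add_left, hf.smul_left, Unitary.add_right' hf, smul_right' hf, hG u hu,
    hG u' hu', huu', hu'u, hKu y hy hy', hKu' y hy hy', z1, z2, hyz y y' hy hy' hz1 hz2]
  ring

end Scalar

variable {F : Type*} [Field F] [Finite F] {a b : ℕ} {σ : F ≃+* F}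
  {f : (Fin a × Fin b → F) → (Fin a × Fin b → F) → F} {f₁ : (Fin a → F) → (Fin a → F) → F}
  {f₂ : (Fin b → F) → (Fin b → F) → F} {M : Subgroup (GL (Fin a × Fin b) F)}

/-- The central shear at `e` given by `S` lies in `M`. -/
def InL (f₂ : (Fin b → F) → (Fin b → F) → F) (M : Subgroup (GL (Fin a × Fin b) F)) (e : Fin b → F)
    (S : (Fin a → F) →ₗ[F] (Fin a → F)) : Prop :=
  ∃ g ∈ M, ∀ v, g.val *ᵥ v = v + pt (S (ctr f₂ e v)) e

variable (C : Ctx σ f f₁ f₂ M) {e : Fin b → F} (he0 : e ≠ 0) (hee : f₂ e e = 0)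
include C hee

lemma inL_add {S S' : (Fin a → F) →ₗ[F] (Fin a → F)} (h : InL f₂ M e S) (h' : InL f₂ M e S') :
    InL f₂ M e (S + S') := by
  obtain ⟨g, hg, hgv⟩ := h
  obtain ⟨g', hg', hgv'⟩ := h'
  refine ⟨g * g', mul_mem hg hg', fun v => ?_⟩
  rw [Units.val_mul, ← mulVec_mulVec, hgv', hgv, map_add (ctr f₂ e), C.tens.ctr_pt, hee, zero_smul, add_zero,
    LinearMap.add_apply, pt_add_left]
  abel

lemma inL_neg {S : (Fin a → F) →ₗ[F] (Fin a → F)} (h : InL f₂ M e S) : InL f₂ M e (-S) := by
  obtain ⟨g, hg, hgv⟩ := h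
  refine ⟨g⁻¹, inv_mem hg, fun v => mulVec_injective g ?_⟩
  simp only
  rw [Transvec.mulVec_inv_cancel, hgv, map_add, C.tens.ctr_pt, hee, zero_smul, add_zero, LinearMap.neg_apply,
    show pt (-S (ctr f₂ e v)) e = - pt (S (ctr f₂ e v)) e from (ptL e).map_neg _]
  abel

lemma inL_sub {S S' : (Fin a → F) →ₗ[F] (Fin a → F)} (h : InL f₂ M e S) (h' : InL f₂ M e S') :
    InL f₂ M e (S - S') := by
  rw [sub_eq_add_neg]; exact inL_add C hee h (inL_neg C hee h')

/-- Conjugation by an isometry of the first factor. -/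
lemma inL_conj {S S' : (Fin a → F) →ₗ[F] (Fin a → F)} {t : GL (Fin a) F} (hti : Iso f₁ t)
    (htd : t.val.det = 1) (h : InL f₂ M e S) (hS : ∀ y, S' (t.val *ᵥ y) = t.val *ᵥ S y) : InL f₂ M e S' := by
  obtain ⟨g, hg, hgv⟩ := h
  refine ⟨kr t 1 * g * (kr t 1)⁻¹, mul_mem (mul_mem (C.krA_mem hti htd) hg) (inv_mem (C.krA_mem hti htd)),
    fun v => ?_⟩
  obtain ⟨y, rfl⟩ : ∃ y, v = (kr t (1 : GL (Fin b) F)).val *ᵥ y := ⟨_, (Transvec.mulVec_inv_cancel _ v).symm⟩
  rw [Units.val_mul, Units.val_mul, ← mulVec_mulVec, ← mulVec_mulVec, Transvec.inv_mulVec_cancel, hgv, mulVec_add,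
    kr_apply, Units.val_one, one_mulVec, C.tens.kr_left_mulVec_ctr, hS]

include he0

/-- The operators of shears are skew. -/
lemma inL_skew {S : (Fin a → F) →ₗ[F] (Fin a → F)} (h : InL f₂ M e S) (x y : Fin a → F) :
    f₁ (S x) y + f₁ x (S y) = 0 := by
  obtain ⟨g, hg, hgv⟩ := h
  obtain ⟨e', he', h1, h1'⟩ := exists_partner C.tens.right he0 hee
  have hc : ∀ x : Fin a → F, ctr f₂ e (pt x e') = x := fun x => by rw [C.tens.ctr_pt, h1, one_smul]
  have := C.iso hg (pt x e') (pt y e')
  rw [hgv, hgv, hc, hc] at this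
  simp only [C.tens.uni.add_left, Unitary.add_right' C.tens.uni, C.tens.pure, he', h1, h1', hee] at this
  linear_combination this

/-- The operators are closed under multiplication by fixed scalars. -/
lemma inL_smul {S : (Fin a → F) →ₗ[F] (Fin a → F)} (h : InL f₂ M e S) {r : F} (hr : σ r = r) :
    InL f₂ M e (r • S) := by
  have hsq : ∀ s : F, σ s = s → InL f₂ M e ((s * s) • S) := by
    intro s hs
    by_cases hs0 : s = 0
    · rw [hs0, mul_zero, zero_smul]
      exact ⟨1, one_mem M, fun v => by rw [Units.val_one, one_mulVec, LinearMap.zero_apply, pt_zero_left, add_zero]⟩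
    obtain ⟨g, hg, hgv⟩ := h
    obtain ⟨D, hD, hDe⟩ := exists_scale_iso C.tens.right he0 hee hs hs0
    have hK := C.transB_mem hD
    refine ⟨kr 1 D * g * (kr 1 D)⁻¹, mul_mem (mul_mem hK hg) (inv_mem hK), fun v => ?_⟩
    obtain ⟨y, rfl⟩ : ∃ y, v = (kr (1 : GL (Fin a) F) D).val *ᵥ y := ⟨_, (Transvec.mulVec_inv_cancel _ v).symm⟩
    have hc : ctr f₂ e y = s • ctr f₂ e ((kr (1 : GL (Fin a) F) D).val *ᵥ y) := by
      by_contra hne
      obtain ⟨x, hx⟩ := (C.tens.left.nondegenerate _ (sub_ne_zero.mpr hne)).2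
      refine hx ?_
      rw [sub_left' C.tens.left, ← C.tens.ctr_image (C.iso hK) (y := x)
        (show (kr (1 : GL (Fin a) F) D).val *ᵥ pt x e = pt x (s • e) by
          rw [kr_apply, Units.val_one, one_mulVec, hDe]) y, C.tens.ctr_smul, hs, sub_self]
    rw [Units.val_mul, Units.val_mul, ← mulVec_mulVec, ← mulVec_mulVec, Transvec.inv_mulVec_cancel, hgv, mulVec_add,
      kr_apply, Units.val_one, one_mulVec, hDe, hc, map_smul, pt_smul_left, pt_smul_right, LinearMap.smul_apply,
      pt_smul_left, smul_smul]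
  by_cases h2 : (2 : F) = 0
  · haveI : CharP F 2 := CharTwo.of_one_ne_zero_of_two_eq_zero one_ne_zero h2
    haveI := Fintype.ofFinite F
    obtain ⟨t, ht⟩ := FiniteField.isSquare_of_char_two (ringChar.eq F 2) r
    have ht' : σ t = t := by
      have e1 : σ t * σ t = t * t := by rw [← map_mul, ← ht, hr]
      rcases mul_self_eq_mul_self_iff.mp e1 with h' | h'
      · exact h'
      · rw [h', CharTwo.neg_eq]
    rw [ht]
    exact hsq t ht'
  · have := inL_sub C hee (hsq ((r + 1) / 2) (by rw [map_div₀, map_add, hr, map_one, map_ofNat]))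
      (hsq ((r - 1) / 2) (by rw [map_div₀, map_sub, hr, map_one, map_ofNat]))
    convert this using 1
    refine LinearMap.ext fun x => ?_
    simp only [LinearMap.sub_apply, LinearMap.smul_apply]
    match_scalars
    field_simp
    ring

/-- Central shears in the group are scalar. -/
theorem scalar_of_shear {S : (Fin a → F) →ₗ[F] (Fin a → F)} (h : InL f₂ M e S) : ∃ c : F, ∀ x, S x = c • x := by
  have h1 := C.tens.left
  refine scalar_of_iso_zero h1 (by rw [Fintype.card_fin]; exact C.dimA) S (inL_skew C he0 hee h) fun d hdd => ?_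
  by_contra hh
  have hd0 : d ≠ 0 := fun h0 => hh (by rw [h0, zero_right' h1])
  obtain ⟨s, hs0, hs⟩ := exists_skew h1.ne_refl h1.involutive
  have hσs : σ s = -s := by linear_combination hs
  obtain ⟨R, hR⟩ : ∃ R : (Fin a → F) →ₗ[F] (Fin a → F), ∀ x, R x = f₁ x d • d :=
    ⟨(linL h1 d).smulRight d, fun x => rfl⟩
  obtain ⟨Cm, hCm⟩ : ∃ Cm : (Fin a → F) →ₗ[F] (Fin a → F), ∀ x, Cm x = f₁ (S x) d • d - f₁ x d • S d :=
    ⟨((linL h1 d).comp S).smulRight d - (linL h1 d).smulRight (S d), fun x => rfl⟩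
  obtain ⟨η, hη⟩ : ∃ η, η = f₁ (S d) d := ⟨_, rfl⟩
  rw [← hη] at hh
  have hΔ : ∀ μ, μ + σ μ = 0 → InL f₂ M e (μ • Cm - (μ * μ * η) • R) := by
    intro μ hμ
    have hμ' : -μ + σ (-μ) = 0 := by rw [map_neg]; linear_combination -hμ
    have h' := inL_conj C hee (S' := S + (μ • Cm - (μ * μ * η) • R)) (iso_uT h1 hdd hμ)
      ((mem_specialLinear_iff _).mp (transv_mem_specialLinear d (μ • uvec f₁ d))) h fun y => by
      rw [uT_mulVec h1 hdd, uT_mulVec h1 hdd]
      simp only [LinearMap.add_apply, LinearMap.sub_apply, LinearMap.smul_apply, map_add, map_smul, hCm, hR, hdd,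
        ← hη]
      module
    have := inL_sub C hee h' h
    rwa [add_sub_cancel_left] at this
  obtain ⟨c, hc0, hcR⟩ : ∃ c : F, c ≠ 0 ∧ InL f₂ M e (c • R) := by
    rcases C.hyp with ⟨k, hk, hk0, hk1⟩ | ⟨ha, -⟩
    · refine ⟨-((k * k - k) * (s * s * η)), neg_ne_zero.mpr (mul_ne_zero (fun h0 => ?_)
        (mul_ne_zero (mul_ne_zero hs0 hs0) hh)), ?_⟩
      · exact mul_ne_zero hk0 (sub_ne_zero.mpr hk1) (by linear_combination h0)
      have := inL_sub C hee (hΔ (k * s) (by rw [map_mul, hk, hσs]; ring)) (inL_smul C he0 hee (hΔ s hs) hk)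
      convert this using 1
      module
    · obtain ⟨Cw, hCw⟩ : ∃ Cw : (Fin a → F) → ((Fin a → F) →ₗ[F] (Fin a → F)),
          ∀ W x, Cw W x = f₁ x W • d + f₁ x d • W :=
        ⟨fun W => (linL h1 W).smulRight d + (linL h1 d).smulRight W, fun W x => rfl⟩
      have hmove : ∀ (p ρ : F) W {g : GL (Fin a) F}, g.val.det = 1 → Iso f₁ g → g.val *ᵥ d = d →
          InL f₂ M e (p • Cw W + ρ • R) → InL f₂ M e (p • Cw (g.val *ᵥ W) + ρ • R) := by
        intro p ρ W g hg hgi hgd hW
        refine inL_conj C hee hgi hg hW fun y => ?_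
        simp only [LinearMap.add_apply, LinearMap.smul_apply, hCw, hR, mulVec_add, mulVec_smul, hgd, hgi y W,
          show f₁ (g.val *ᵥ y) d = f₁ y d by conv_lhs => rw [← hgd, hgi]]
      have hCmw : Cm = -Cw (S d) := LinearMap.ext fun x => by
        rw [LinearMap.neg_apply, hCm, hCw, show f₁ (S x) d = -f₁ x (S d) by
          linear_combination inL_skew C he0 hee h x d]
        module
      have h0 : InL f₂ M e ((-s) • Cw (S d) + (-(s * s * η)) • R) := by
        have := hΔ s hs
        rw [hCmw] at this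
        convert this using 1
        module
      -- a vector orthogonal to d outside its line
      obtain ⟨w₀, hw₀, hw₀n⟩ := SetLike.not_le_iff_exists.mp (fun hle : LinearMap.ker (linL h1 d) ≤
          Submodule.span F {d} => by
        have e1 := LinearMap.finrank_range_add_finrank_ker (linL h1 d)
        have e2 := Submodule.finrank_le (LinearMap.range (linL h1 d))
        have e3 := Submodule.finrank_mono hle
        rw [finrank_span_singleton hd0] at e3
        rw [Module.finrank_self] at e2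
        rw [Module.finrank_fin_fun] at e1
        omega)
      have hw₀d : f₁ w₀ d = 0 := LinearMap.mem_ker.mp hw₀
      obtain ⟨ν, hν⟩ := exists_eich_scalar h1 w₀
      have hg1 := det_eich h1 hdd hw₀d hν
      have hgd : (eich h1 hdd hw₀d hν).val *ᵥ d = d := by
        rw [eich_mulVec, hdd, (eq_zero_comm h1).1 hw₀d]; simp
      have h1' := hmove _ _ _ hg1 (iso_eich h1 hdd hw₀d hν) hgd h0
      obtain ⟨W, hW⟩ : ∃ W, W = (eich h1 hdd hw₀d hν).val *ᵥ S d - S d := ⟨_, rfl⟩
      have hWeq : W = η • w₀ + (ν * η - f₁ (S d) w₀) • d := by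
        rw [hW, eich_mulVec, ← hη]; module
      have hWd : f₁ W d = 0 := by rw [hWeq, h1.add_left, h1.smul_left, h1.smul_left, hw₀d, hdd]; ring
      have hWn : W ∉ Submodule.span F {d} := fun hm => by
        refine hw₀n ?_
        have := Submodule.smul_mem _ η⁻¹ (Submodule.sub_mem _ (hWeq ▸ hm)
          (Submodule.smul_mem _ (ν * η - f₁ (S d) w₀) (Submodule.mem_span_singleton_self d)))
        rwa [add_sub_cancel_right, inv_smul_smul₀ hh] at this
      have hCsub : ∀ W W', Cw (W - W') = Cw W - Cw W' := fun W W' => LinearMap.ext fun x => by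
        rw [LinearMap.sub_apply, hCw, hCw, hCw, sub_right' h1]; module
      have hWmem : InL f₂ M e ((-s) • Cw W + (0 : F) • R) := by
        have := inL_sub C hee h1' h0
        rw [hW, hCsub]
        convert this using 1
        module
      obtain ⟨z, hzd, hzW⟩ := exists_perp_pair h1 hWn
      obtain ⟨κ, hκ⟩ := exists_trace_ne_zero h1.ne_refl
      obtain ⟨w', hw'⟩ : ∃ w', w' = σ (κ / f₁ W z) • z := ⟨_, rfl⟩
      have hWz : f₁ W z ≠ 0 := fun h0 => hzW ((eq_zero_comm h1).1 h0)
      have hw'W : f₁ W w' = κ := by rw [hw', smul_right' h1, h1.involutive, div_mul_cancel₀ _ hWz]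
      have hw'd : f₁ w' d = 0 := by rw [hw', h1.smul_left, hzd, mul_zero]
      obtain ⟨ν', hν'⟩ := exists_eich_scalar h1 w'
      have hg2 := det_eich h1 hdd hw'd hν'
      have hgd' : (eich h1 hdd hw'd hν').val *ᵥ d = d := by
        rw [eich_mulVec, hdd, (eq_zero_comm h1).1 hw'd]; simp
      have h2' := hmove _ _ _ hg2 (iso_eich h1 hdd hw'd hν') hgd' hWmem
      have hgW : (eich h1 hdd hw'd hν').val *ᵥ W - W = (-κ) • d := by
        rw [eich_mulVec, hWd, hw'W]; module
      refine ⟨s * (κ + σ κ), mul_ne_zero hs0 hκ, ?_⟩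
      have := inL_sub C hee h2' hWmem
      convert this using 1
      rw [show (eich h1 hdd hw'd hν').val *ᵥ W = W + (-κ) • d by rw [← hgW]; abel]
      refine LinearMap.ext fun x => ?_
      simp only [LinearMap.sub_apply, LinearMap.add_apply, LinearMap.smul_apply, hCw, hR, Unitary.add_right' h1,
        smul_right' h1, map_neg]
      module
  obtain ⟨d', hd', hd'd, hdd'⟩ := exists_partner h1 hd0 hdd
  have hcs : c + σ c = 0 := by
    have := inL_skew C he0 hee hcR d' d'
    simp only [LinearMap.smul_apply, hR, h1.smul_left, smul_right' h1, hd'd, hdd', mul_one, map_one] at this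
    exact this
  refine no_full C hd0 he0 hdd hee ⟨by rw [C.tens.pure, hdd, zero_mul], fun c' hc' => ?_⟩
  obtain ⟨g, hg, hgv⟩ := inL_smul C he0 hee hcR (r := c' / c) (by
    rw [map_div₀, show σ c' = -c' by linear_combination hc', show σ c = -c by linear_combination hcs, neg_div_neg_eq])
  have : g = uT f (pt d e) c' := gl_ext fun v => by
    rw [hgv, uT_mulVec C.tens.uni (by rw [C.tens.pure, hdd, zero_mul]), C.tens.f_pt]
    simp only [LinearMap.smul_apply, hR, smul_smul, pt_smul_left]
    rw [div_mul_cancel₀ _ hc0]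
  exact this ▸ hg

end CfsgLib.Classical22.TensorMax.UnitT
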