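/-
Every element of the group fixing a pure totally isotropic subspace is a tensor product.
-/
import Cfsg.Agent.Lib.Classical22.UnitTensor.Scalar

set_option autoImplicit false
set_option linter.unusedSectionVars false
set_option maxHeartbeats 800000

namespace CfsgLib.Classical22.TensorMax.UnitT

open Matrix Kronecker CfsgLib.Transvec CfsgLib.Transvec.Unitary CfsgLib.Classical22.TensorMax.SympO
open CfsgLib.Classical22.TensorMax.SpO (kr kr_apply isKron_kr glOfLin glOfLin_mulVec)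
open scoped MatrixGroups

variable {F : Type*} [Field F] [Finite F] {a b : ℕ} {σ : F ≃+* F}
  {f : (Fin a × Fin b → F) → (Fin a × Fin b → F) → F} {f₁ : (Fin a → F) → (Fin a → F) → F}
  {f₂ : (Fin b → F) → (Fin b → F) → F} {M : Subgroup (GL (Fin a × Fin b) F)}

lemma pt_neg_left (x : Fin a → F) (u : Fin b → F) : pt (-x) u = - pt x u := (ptL u).map_neg x

lemma pt_sub_left (x y : Fin a → F) (u : Fin b → F) : pt (x - y) u = pt x u - pt y u := (ptL u).map_sub x y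

/-- A vector with zero contraction at `e` is a sum of pure vectors orthogonal to `e`. -/
lemma mem_of_ctr_zero (T : Tens σ f f₁ f₂) {e e' : Fin b → F} (h : f₂ e' e = 1)
    {Z : Submodule F (Fin a × Fin b → F)} (hZ : ∀ x d, f₂ d e = 0 → pt x d ∈ Z) {v : Fin a × Fin b → F}
    (hv : ctr f₂ e v = 0) : v ∈ Z := by
  have : v - pt (ctr f₂ e v) e' ∈ Z := by
    rw [eq_sum_pt v, map_sum, ← ptL_apply, map_sum, ← Finset.sum_sub_distrib]
    refine sum_mem fun j _ => ?_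
    rw [T.ctr_pt, ptL_apply, pt_smul_left, ← pt_smul_right, ← pt_sub_right]
    exact hZ _ _ (by rw [sub_left' T.right, T.right.smul_left, h, mul_one, sub_self])
  rwa [hv, pt_zero_left, sub_zero] at this

variable (C : Ctx σ f f₁ f₂ M) {e : Fin b → F}
include C

/-- The root element along `w` on the second factor, applied to a vector. -/
lemma eichB_apply (hee : f₂ e e = 0) {w : Fin b → F} (hwe : f₂ w e = 0) {ν : F} (hν : ν + σ ν + f₂ w w = 0)
    (v : Fin a × Fin b → F) : (kr (1 : GL (Fin a) F) (eich C.tens.right hee hwe hν)).val *ᵥ v =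
      v + pt (ctr f₂ e v) w - pt (ctr f₂ w v) e + ν • pt (ctr f₂ e v) e :=
  Eq.trans (Matrix.mulVecLin_apply _ _).symm <|
  LinearMap.congr_fun (lin_ext (L := Matrix.mulVecLin (kr (1 : GL (Fin a) F) (eich C.tens.right hee hwe hν)).val)
    (L' := LinearMap.id + (ptL w).comp (ctr f₂ e) - (ptL e).comp (ctr f₂ w) + ν • (ptL e).comp (ctr f₂ e))
    fun x z => by
      change (kr (1 : GL (Fin a) F) (eich C.tens.right hee hwe hν)).val *ᵥ pt x z =
        pt x z + pt (ctr f₂ e (pt x z)) w - pt (ctr f₂ w (pt x z)) e + ν • pt (ctr f₂ e (pt x z)) e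
      rw [kr_apply, Units.val_one, one_mulVec, eich_mulVec, C.tens.ctr_pt, C.tens.ctr_pt]
      simp only [pt_add_right, pt_sub_right, pt_smul_right, pt_smul_left, smul_smul]) v

variable (he0 : e ≠ 0) (hee : f₂ e e = 0)
include he0 hee

/-- The components of a shear along a pure subspace are scalar. -/
theorem shear_scalar {g : GL (Fin a × Fin b) F} (hg : g ∈ M) (hfix : ∀ x, g.val *ᵥ pt x e = pt x e)
    (hsh : ∀ d, f₂ d e = 0 → ∀ x, ∃ y, g.val *ᵥ pt x d = pt x d + pt y e) (d : Fin b → F) (hd : f₂ d e = 0) :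
    ∃ κ : F, ∀ x, g.val *ᵥ pt x d = pt x d + κ • pt x e := by
  have T := C.tens
  have h1 := T.left
  obtain ⟨e', he', h21, h21'⟩ := exists_partner T.right he0 hee
  obtain ⟨k, hk⟩ := exists_moved h1
  have hgi := C.iso hg
  have hctr : ∀ v, ctr f₂ e (g.val *ᵥ v) = ctr f₂ e v := fun v => by
    by_contra hne
    obtain ⟨y, hy⟩ := (h1.nondegenerate _ (sub_ne_zero.mpr hne)).2
    exact hy (by rw [sub_left' h1, T.ctr_image hgi (hfix y) v, sub_self])
  -- the components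
  obtain ⟨K, hK⟩ : ∃ K : (Fin b → F) → ((Fin a → F) →ₗ[F] (Fin a → F)),
      ∀ d x, K d x = ctr f₂ e' (g.val *ᵥ pt x d - pt x d) :=
    ⟨fun d => (ctr f₂ e').comp ((Matrix.mulVecLin g.val).comp (ptL d) - ptL d), fun d x => rfl⟩
  have hKd : ∀ d, f₂ d e = 0 → ∀ x, g.val *ᵥ pt x d = pt x d + pt (K d x) e := fun d hd x => by
    obtain ⟨y, hy⟩ := hsh d hd x
    rw [hy, hK, hy, add_sub_cancel_left, T.ctr_pt, h21', one_smul]
  have hμ : ∀ w, f₂ w e = 0 → ∃ μ : F, ∀ x y, f₁ (K w x) y - f₁ x (K w y) = μ * f₁ x y := by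
    intro w hwe
    obtain ⟨ν, hν⟩ := exists_eich_scalar T.right w
    obtain ⟨X, hX⟩ : ∃ X, X = kr (1 : GL (Fin a) F) (eich T.right hee hwe hν) := ⟨_, rfl⟩
    have hXM : X ∈ M := hX ▸ C.krB_mem (iso_eich T.right hee hwe hν) (det_eich T.right hee hwe hν)
    have hXv := fun v => eichB_apply C hee hwe hν v
    rw [← hX] at hXv
    obtain ⟨L, hL⟩ : ∃ L : (Fin a → F) →ₗ[F] (Fin a → F),
        ∀ x, L x = ctr f₂ w (g.val *ᵥ pt x e' - pt x e') :=
      ⟨(ctr f₂ w).comp ((Matrix.mulVecLin g.val).comp (ptL e') - ptL e'), fun x => rfl⟩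
    have hdiff : ∀ v y, f₁ (ctr f₂ w (g.val *ᵥ v - v)) y = -f₁ (ctr f₂ e v) (K w y) := fun v y => by
      have e1 : pt y w = g.val *ᵥ pt y w - pt (K w y) e := by rw [hKd w hwe, add_sub_cancel_right]
      have e2 : f (g.val *ᵥ v) (pt y w) = f v (pt y w) - f₁ (ctr f₂ e v) (K w y) := by
        conv_lhs => rw [e1, sub_right' T.uni, hgi, T.f_pt (g.val *ᵥ v), hctr]
      rw [map_sub, sub_left' h1, ← T.f_pt, ← T.f_pt, e2]
      ring
    have hLe : ∀ v, ctr f₂ w (g.val *ᵥ v - v) = L (ctr f₂ e v) := fun v => by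
      by_contra hne
      obtain ⟨y, hy⟩ := (h1.nondegenerate _ (sub_ne_zero.mpr hne)).2
      refine hy ?_
      rw [sub_left' h1, hdiff, hL, hdiff, T.ctr_pt, h21, one_smul, sub_self]
    obtain ⟨z, hz⟩ : ∃ z, z = (X * g)⁻¹ * (g * X) := ⟨_, rfl⟩
    have hzM : z ∈ M := hz ▸ mul_mem (inv_mem (mul_mem hXM hg)) (mul_mem hg hXM)
    have hXW : ∀ x, (X * g).val *ᵥ pt x e = pt x e := fun x => by
      rw [Units.val_mul, ← mulVec_mulVec, hfix, hXv, T.ctr_pt, T.ctr_pt, hee, (eq_zero_comm T.right).1 hwe]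
      simp [pt_zero_left]
    have hzv : ∀ v, z.val *ᵥ v = v + pt ((K w + L) (ctr f₂ e v)) e := fun v => by
      refine mulVec_injective (X * g) ?_
      simp only
      rw [hz, ← Transvec.mul_mulVec, mul_inv_cancel_left, mulVec_add, hXW, Transvec.mul_mulVec,
        Transvec.mul_mulVec, hXv, hXv, hctr, LinearMap.add_apply, ← hLe]
      simp only [mulVec_add, mulVec_sub, mulVec_smul, hKd w hwe, hfix, pt_add_left, pt_sub_left, map_sub]
      abel
    obtain ⟨μ, hμ⟩ := scalar_of_shear C he0 hee ⟨z, hzM, hzv⟩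
    refine ⟨μ, fun x y => ?_⟩
    rw [← h1.smul_left, ← hμ, LinearMap.add_apply, h1.add_left, hL, hdiff, T.ctr_pt, h21, one_smul]
    ring
  obtain ⟨μ, hμd⟩ := hμ d hd
  obtain ⟨μ', hμd'⟩ := hμ (k • d) (by rw [T.right.smul_left, hd, mul_zero])
  refine ⟨(μ' - σ k * μ) / (k - σ k), fun x => ?_⟩
  rw [hKd d hd, ← pt_smul_left]
  congr 2
  by_contra hne
  obtain ⟨y, hy⟩ := (h1.nondegenerate _ (sub_ne_zero.mpr hne)).2
  refine hy ?_
  have e2 := hμd' x y
  have hKk : ∀ x, K (k • d) x = k • K d x := fun x => by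
    rw [hK, hK, pt_smul_right, mulVec_smul, ← smul_sub, map_smul]
  rw [hKk, hKk, h1.smul_left, smul_right' h1] at e2
  rw [sub_left' h1, h1.smul_left, sub_eq_zero, div_mul_eq_mul_div, eq_div_iff hk]
  linear_combination e2 - σ k * hμd x y

/-- An element fixing a pure subspace pointwise and shearing its orthogonal is a tensor product. -/
theorem kron_of_shear {g : GL (Fin a × Fin b) F} (hg : g ∈ M) (hfix : ∀ x, g.val *ᵥ pt x e = pt x e)
    (hsh : ∀ d, f₂ d e = 0 → ∀ x, ∃ y, g.val *ᵥ pt x d = pt x d + pt y e) : IsKron g := by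
  classical
  have T := C.tens
  obtain ⟨e', he', h21, h21'⟩ := exists_partner T.right he0 hee
  obtain ⟨x₀, hx₀⟩ : ∃ x : Fin a → F, x ≠ 0 := ⟨Pi.single ⟨0, by have := C.dimA; omega⟩ 1, by simp⟩
  obtain ⟨ψ, -, hψ⟩ := exists_functional (E := (⊥ : Submodule F (Fin a → F))) (u := x₀) (by simpa using hx₀)
  obtain ⟨φ, hφ⟩ : ∃ φ : (Fin b → F) →ₗ[F] F, ∀ d, φ d = ψ ⬝ᵥ ctr f₂ e' (g.val *ᵥ pt x₀ d - pt x₀ d) :=
    ⟨{ toFun := fun d => ψ ⬝ᵥ ctr f₂ e' (g.val *ᵥ pt x₀ d - pt x₀ d)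
       map_add' := fun d d' => by
         rw [pt_add_right, mulVec_add, ← dotProduct_add, ← map_add]; congr 2; abel
       map_smul' := fun c d => by
         rw [pt_smul_right, mulVec_smul, ← smul_sub, map_smul, dotProduct_smul]; rfl }, fun d => rfl⟩
  have hκ : ∀ d, f₂ d e = 0 → ∀ x, g.val *ᵥ pt x d = pt x d + φ d • pt x e := fun d hd x => by
    obtain ⟨κ, hκ⟩ := shear_scalar C he0 hee hg hfix hsh d hd
    rw [hκ, hφ, hκ, add_sub_cancel_left, map_smul, T.ctr_pt, h21', one_smul, dotProduct_smul, hψ, smul_eq_mul,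
      mul_one]
  obtain ⟨z, hz⟩ := uvec_surjective T.right (fun j => -φ (Pi.single j 1))
  have hzd : ∀ d, f₂ d z = -φ d := fun d => by
    rw [← uvec_dot T.right, hz, dotProduct]
    conv_rhs => rw [pi_eq_sum_univ' d, map_sum, ← Finset.sum_neg_distrib]
    refine Finset.sum_congr rfl fun j _ => ?_
    rw [map_smul, smul_eq_mul]
    ring
  have hze : f₂ z e = 0 := (eq_zero_comm T.right).1 (by
    rw [hzd, hφ, hfix, sub_self, map_zero, dotProduct_zero, neg_zero])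
  obtain ⟨ν, hν⟩ := exists_eich_scalar T.right z
  obtain ⟨h, hh⟩ : ∃ h, h = kr (1 : GL (Fin a) F) (eich T.right hee hze hν) := ⟨_, rfl⟩
  have hhM : h ∈ M := hh ▸ C.krB_mem (iso_eich T.right hee hze hν) (det_eich T.right hee hze hν)
  have hhv := fun v => eichB_apply C hee hze hν v
  rw [← hh] at hhv
  have hhe : ∀ x, h.val *ᵥ pt x e = pt x e := fun x => by
    rw [hhv, T.ctr_pt, T.ctr_pt, hee, (eq_zero_comm T.right).1 hze]; simp [pt_zero_left]
  obtain ⟨u, hu⟩ : ∃ u, u = h⁻¹ * g := ⟨_, rfl⟩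
  have huM : u ∈ M := hu ▸ mul_mem (inv_mem hhM) hg
  have hue : ∀ d, f₂ d e = 0 → ∀ x, u.val *ᵥ pt x d = pt x d := fun d hd x => by
    refine mulVec_injective h ?_
    simp only
    rw [hu, Units.val_mul, ← mulVec_mulVec, Transvec.mulVec_inv_cancel, hκ d hd, hhv, T.ctr_pt, T.ctr_pt, hd, hzd]
    simp [pt_zero_left, pt_neg_left, pt_smul_left]
  obtain ⟨S, hS⟩ : ∃ S : (Fin a → F) →ₗ[F] (Fin a → F), ∀ x, S x = ctr f₂ e' (u.val *ᵥ pt x e' - pt x e') :=
    ⟨(ctr f₂ e').comp ((Matrix.mulVecLin u.val).comp (ptL e') - ptL e'), fun x => rfl⟩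
  have huv : ∀ v, u.val *ᵥ v = v + pt (S (ctr f₂ e v)) e := fun v => by
    have hbase : ∀ x, u.val *ᵥ pt x e' = pt x e' + pt (S x) e := fun x => by
      rw [hS, ← T.mem_pure_of_ctr h21 (v := u.val *ᵥ pt x e' - pt x e') fun w hw => ?_, add_sub_cancel]
      by_contra hne
      obtain ⟨y, hy⟩ := (T.left.nondegenerate _ hne).2
      refine hy ?_
      rw [map_sub, sub_left' T.left, ← T.f_pt (u.val *ᵥ pt x e'), ← T.f_pt (pt x e')]
      conv_lhs => arg 1; rw [← hue w hw y]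
      rw [C.iso huM, sub_self]
    refine Eq.trans (Matrix.mulVecLin_apply _ _).symm <| LinearMap.congr_fun
      (lin_ext (L := Matrix.mulVecLin u.val) (L' := LinearMap.id + (ptL e).comp (S.comp (ctr f₂ e))) fun x d => ?_) v
    change u.val *ᵥ pt x d = pt x d + pt (S (ctr f₂ e (pt x d))) e
    have hd : f₂ (d - f₂ d e • e') e = 0 := by rw [sub_left' T.right, T.right.smul_left, h21, mul_one, sub_self]
    conv_lhs => rw [← sub_add_cancel d (f₂ d e • e'), pt_add_right, mulVec_add, hue _ hd, pt_smul_right, mulVec_smul,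
      hbase]
    rw [T.ctr_pt, map_smul, pt_smul_left, pt_sub_right, pt_smul_right]
    module
  obtain ⟨c, hc⟩ := scalar_of_shear C he0 hee ⟨u, huM, huv⟩
  have hueq : u = kr (1 : GL (Fin a) F) (uT f₂ e c) := gl_ext fun v => by
    rw [huv, T.root_apply hee, hc, pt_smul_left]
  have hgeq : g = h * u := by rw [hu, mul_inv_cancel_left]
  rw [hgeq, hueq, hh]
  exact (Cfsg.Geo.kroneckerSubgroup a b F).mul_mem (isKron_kr _ _) (isKron_kr _ _)

/-- Elements fixing a pure totally isotropic subspace are tensor products. -/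
theorem kron_of_fix {g : GL (Fin a × Fin b) F} (hg : g ∈ M) (hfix : ∀ x, ∃ y, g.val *ᵥ pt x e = pt y e) :
    IsKron g := by
  classical
  have T := C.tens
  have h1 := T.left
  have h2 := T.right
  have hgi := C.iso hg
  obtain ⟨e', he', h21, h21'⟩ := exists_partner h2 he0 hee
  obtain ⟨G, hG⟩ : ∃ G : (Fin a → F) →ₗ[F] (Fin a → F), ∀ x, G x = ctr f₂ e' (g.val *ᵥ pt x e) :=
    ⟨(ctr f₂ e').comp ((Matrix.mulVecLin g.val).comp (ptL e)), fun x => rfl⟩
  have hGe : ∀ x, g.val *ᵥ pt x e = pt (G x) e := fun x => by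
    obtain ⟨y, hy⟩ := hfix x
    rw [hG, hy, T.ctr_pt, h21', one_smul]
  have hGinj : Function.Injective G := fun x y hxy =>
    pt_injective he0 (mulVec_injective g (by simp only [ptL_apply]; rw [hGe, hGe, hxy]))
  have hGsurj : Function.Surjective G := LinearMap.injective_iff_surjective.mp hGinj
  obtain ⟨L, hL⟩ : ∃ L : (Fin a → F) →ₗ[F] (Fin a → F), ∀ x, L x = ctr f₂ e (g⁻¹.val *ᵥ pt x e') :=
    ⟨(ctr f₂ e).comp ((Matrix.mulVecLin g⁻¹.val).comp (ptL e')), fun x => rfl⟩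
  have hLG' : ∀ v y, f₁ (ctr f₂ e (g⁻¹.val *ᵥ v)) y = f₁ (ctr f₂ e v) (G y) := fun v y => by
    rw [← T.ctr_image hgi (hGe y), Transvec.mulVec_inv_cancel]
  have hLv : ∀ v, ctr f₂ e (g⁻¹.val *ᵥ v) = L (ctr f₂ e v) := fun v => by
    by_contra hne
    obtain ⟨y, hy⟩ := (h1.nondegenerate _ (sub_ne_zero.mpr hne)).2
    refine hy ?_
    rw [sub_left' h1, hLG', hL, hLG', T.ctr_pt, h21, one_smul, sub_self]
  have hLadj : ∀ x y, f₁ (L x) y = f₁ x (G y) := fun x y => by rw [hL, hLG', T.ctr_pt, h21, one_smul]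
  obtain ⟨s, hs0, hs⟩ := exists_skew h1.ne_refl h1.involutive
  obtain ⟨c, hc⟩ := scalar_of_shear C he0 hee (S := s • G.comp L)
    ⟨g * kr 1 (uT f₂ e s) * g⁻¹, mul_mem (mul_mem hg (C.transB_mem (uT_mem h2 hee hs))) (inv_mem hg), fun v => by
      rw [Units.val_mul, Units.val_mul, ← mulVec_mulVec, ← mulVec_mulVec, T.root_apply hee, mulVec_add, mulVec_smul,
        Transvec.mulVec_inv_cancel, hGe, hLv, LinearMap.smul_apply, pt_smul_left]
      rfl⟩
  obtain ⟨ζ, hζ⟩ : ∃ ζ, ζ = c / s := ⟨_, rfl⟩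
  have hGL : ∀ x, G (L x) = ζ • x := fun x => by
    have := hc x
    rw [LinearMap.smul_apply, LinearMap.comp_apply] at this
    rw [hζ, div_eq_inv_mul, ← smul_smul, ← this, inv_smul_smul₀ hs0]
  have hLG : ∀ x, L (G x) = ζ • x := fun x => hGinj (by rw [hGL, map_smul])
  have hGm : ∀ x y, f₁ (G x) (G y) = ζ * f₁ x y := fun x y => by rw [← hLadj, hLG, h1.smul_left]
  obtain ⟨x₀, hx₀⟩ : ∃ x : Fin a → F, x ≠ 0 := ⟨Pi.single ⟨0, by have := C.dimA; omega⟩ 1, by simp⟩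
  obtain ⟨x₁, hx₁⟩ := (h1.nondegenerate x₀ hx₀).2
  have hζ0 : ζ ≠ 0 := by
    obtain ⟨y, hy⟩ := (h1.nondegenerate (G x₀) (fun h => hx₀ (hGinj (by rw [h, map_zero])))).2
    obtain ⟨y', rfl⟩ := hGsurj y
    intro h0
    exact hy (by rw [hGm, h0, zero_mul])
  have hσζ : σ ζ = ζ := by
    have e1 : f₁ (G x₀) (G x₁) = σ (f₁ (G x₁) (G x₀)) := h1.herm _ _
    rw [hGm, hGm, map_mul, ← h1.herm] at e1
    exact (mul_right_cancel₀ hx₁ e1).symm
  have hperp : ∀ x d, f₂ d e = 0 → ctr f₂ e (g.val *ᵥ pt x d) = 0 := fun x d hd => by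
    by_contra hne
    obtain ⟨y, hy⟩ := (h1.nondegenerate _ hne).2
    obtain ⟨y', rfl⟩ := hGsurj y
    refine hy ?_
    rw [T.ctr_image hgi (hGe y'), T.ctr_pt, hd, zero_smul, zero_left' h1]
  obtain ⟨ψ, -, hψ⟩ := exists_functional (E := (⊥ : Submodule F (Fin a → F))) (u := G x₀)
    (by simpa using fun h => hx₀ (hGinj (h.trans (map_zero G).symm)))
  obtain ⟨B₀, hB₀⟩ : ∃ B₀ : (Fin b → F) →ₗ[F] (Fin b → F), ∀ d, B₀ d = slA ψ (g.val *ᵥ pt x₀ d) :=
    ⟨(slA ψ).comp ((Matrix.mulVecLin g.val).comp (ptR x₀)), fun d => rfl⟩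
  have hB₀w : ∀ d w, f₂ (B₀ d) w = ψ ⬝ᵥ ctr f₂ w (g.val *ᵥ pt x₀ d) := fun d w => by
    rw [← uvec_dot h2, hB₀, ← dot_sl_slA]
    rfl
  have hB₀e : ∀ d, f₂ d e = 0 → f₂ (B₀ d) e = 0 := fun d hd => by rw [hB₀w, hperp _ _ hd, dotProduct_zero]
  have hgW : ∀ d, f₂ d e = 0 → ∀ x, ∃ y, g.val *ᵥ pt x d = pt (G x) (B₀ d) + pt y e := by
    intro d hd x
    suffices h : ∀ w, f₂ w e = 0 → ctr f₂ w (g.val *ᵥ pt x d - pt (G x) (B₀ d)) = 0 by
      refine ⟨ctr f₂ e' (g.val *ᵥ pt x d - pt (G x) (B₀ d)), ?_⟩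
      rw [← T.mem_pure_of_ctr h21 h, add_sub_cancel]
    intro w hwe
    obtain ⟨ν, hν⟩ := exists_eich_scalar h2 w
    obtain ⟨X, hX⟩ : ∃ X, X = kr (1 : GL (Fin a) F) (eich h2 hee hwe hν) := ⟨_, rfl⟩
    have hXM : X ∈ M := hX ▸ C.krB_mem (iso_eich h2 hee hwe hν) (det_eich h2 hee hwe hν)
    have hXv := fun v => eichB_apply C hee hwe hν v
    rw [← hX] at hXv
    have hcM : g⁻¹ * X * g ∈ M := mul_mem (mul_mem (inv_mem hg) hXM) hg
    have hcW : ∀ x, (g⁻¹ * X * g).val *ᵥ pt x e = pt x e := fun x => by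
      rw [Units.val_mul, Units.val_mul, ← mulVec_mulVec, ← mulVec_mulVec, hGe, hXv, T.ctr_pt, T.ctr_pt, hee,
        (eq_zero_comm h2).1 hwe]
      simp only [zero_smul, pt_zero_left, smul_zero, add_zero, sub_zero]
      rw [← hGe, Transvec.inv_mulVec_cancel]
    have hcd : ∀ d, f₂ d e = 0 → ∀ x, ∃ y, (g⁻¹ * X * g).val *ᵥ pt x d = pt x d + pt y e ∧
        ctr f₂ w (g.val *ᵥ pt x d) = -G y := fun d hd x => by
      obtain ⟨y', hy'⟩ := hGsurj (ctr f₂ w (g.val *ᵥ pt x d))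
      refine ⟨-y', ?_, by rw [map_neg, neg_neg, hy']⟩
      rw [Units.val_mul, Units.val_mul, ← mulVec_mulVec, ← mulVec_mulVec, hXv, hperp x d hd, ← hy']
      simp only [pt_zero_left, smul_zero, add_zero, mulVec_sub, Transvec.inv_mulVec_cancel]
      rw [← hGe, Transvec.inv_mulVec_cancel, pt_neg_left, sub_eq_add_neg]
    obtain ⟨κ, hκ⟩ := shear_scalar C he0 hee hcM hcW (fun d hd x => (hcd d hd x).imp fun y hy => hy.1) d hd
    have hctr : ∀ x, ctr f₂ w (g.val *ᵥ pt x d) = (-κ) • G x := fun x => by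
      obtain ⟨y, hy, hy'⟩ := hcd d hd x
      rw [hκ, add_right_inj, ← pt_smul_left] at hy
      have hye : κ • x = y := pt_injective he0 hy
      rw [hy', ← hye, map_smul, neg_smul]
    rw [map_sub, T.ctr_pt, hctr, hB₀w, hctr, dotProduct_smul, hψ, smul_eq_mul, mul_one, sub_self]
  have hB₀m : ∀ d d', f₂ d e = 0 → f₂ d' e = 0 → ζ * f₂ (B₀ d) (B₀ d') = f₂ d d' := fun d d' hd hd' => by
    obtain ⟨y, hy⟩ := hgW d hd x₀
    obtain ⟨y', hy'⟩ := hgW d' hd' x₁
    have := hgi (pt x₀ d) (pt x₁ d')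
    rw [hy, hy'] at this
    simp only [T.uni.add_left, Unitary.add_right' T.uni, T.pure, hB₀e d hd, (eq_zero_comm h2).1 (hB₀e d' hd'), hee,
      hGm, mul_zero, add_zero] at this
    exact mul_left_cancel₀ hx₁ (by linear_combination this)
  obtain ⟨π, hπ⟩ : ∃ π : (Fin b → F) →ₗ[F] (Fin b → F), ∀ z, π z = z - f₂ z e • e' - f₂ z e' • e :=
    ⟨LinearMap.id - (linL h2 e).smulRight e' - (linL h2 e').smulRight e, fun z => rfl⟩
  have hπe : ∀ z, f₂ (π z) e = 0 := fun z => by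
    rw [hπ, sub_left' h2, sub_left' h2, h2.smul_left, h2.smul_left, h21, hee]; ring
  have hπe' : ∀ z, f₂ (π z) e' = 0 := fun z => by
    rw [hπ, sub_left' h2, sub_left' h2, h2.smul_left, h2.smul_left, h21', he']; ring
  have hππ : ∀ z z', f₂ z e = 0 → f₂ z' e = 0 → f₂ (π z) (π z') = f₂ z z' := fun z z' hz hz' => by
    simp only [hπ, hz, hz', zero_smul, sub_zero, sub_left' h2, h2.smul_left, sub_right' h2, smul_right' h2, hee,
      (eq_zero_comm h2).1 hz', mul_zero]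
  obtain ⟨Bm, hBm⟩ : ∃ Bm : (Fin b → F) →ₗ[F] (Fin b → F),
      ∀ z, Bm z = f₂ z e' • e + (ζ⁻¹ * f₂ z e) • e' + π (B₀ (π z)) :=
    ⟨(linL h2 e').smulRight e + (ζ⁻¹ • linL h2 e).smulRight e' + π.comp (B₀.comp π), fun z => rfl⟩
  have hBsim : ∀ z z', f₂ (Bm z) (Bm z') = ζ⁻¹ * f₂ z z' := fun z z' => by
    have e1 : f₂ (π (B₀ (π z))) (π (B₀ (π z'))) = ζ⁻¹ * f₂ (π z) (π z') := by
      rw [hππ _ _ (hB₀e _ (hπe z)) (hB₀e _ (hπe z')), ← hB₀m _ _ (hπe z) (hπe z'), inv_mul_cancel_left₀ hζ0]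
    have e2 : f₂ z z' = f₂ z e * σ (f₂ z' e') + f₂ z e' * σ (f₂ z' e) + f₂ (π z) (π z') := by
      simp only [hπ, sub_left' h2, h2.smul_left, sub_right' h2, smul_right' h2, hee, he', h21, h21', ← h2.herm]
      ring
    rw [hBm, hBm]
    simp only [h2.add_left, Unitary.add_right' h2, h2.smul_left, smul_right' h2, hee, he', h21, h21', hπe, hπe',
      (eq_zero_comm h2).1 (hπe _), (eq_zero_comm h2).1 (hπe' _), map_mul, map_inv₀, hσζ, e1]
    rw [e2]
    ring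
  have hBinj : Function.Injective Bm := (injective_iff_map_eq_zero Bm).mpr fun z hz => by
    by_contra hne
    obtain ⟨y, hy⟩ := (h2.nondegenerate z hne).2
    have := hBsim z y
    rw [hz, zero_left' h2] at this
    exact mul_ne_zero (inv_ne_zero hζ0) hy this.symm
  obtain ⟨y₀, hy₀⟩ : ∃ y₀, y₀ = kr (glOfLin G hGinj) (glOfLin Bm hBinj) := ⟨_, rfl⟩
  have hy₀v : ∀ x z, y₀.val *ᵥ pt x z = pt (G x) (Bm z) := fun x z => by
    rw [hy₀, kr_apply, glOfLin_mulVec, glOfLin_mulVec]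
  have hy₀i : Iso f y₀ := hy₀ ▸ T.iso_kr (m := ζ) (n := ζ⁻¹)
    (fun x y => by rw [glOfLin_mulVec, glOfLin_mulVec, hGm]) (fun x y => by rw [glOfLin_mulVec, glOfLin_mulVec, hBsim])
    (mul_inv_cancel₀ hζ0)
  have hBe : Bm e = e := by
    rw [hBm, h21', hee, show π e = 0 by rw [hπ, h21', hee]; simp]
    simp
  obtain ⟨u, hu⟩ : ∃ u, u = y₀⁻¹ * g := ⟨_, rfl⟩
  have hui : Iso f u := hu ▸ hy₀i.inv.mul hgi
  have huW : ∀ x, u.val *ᵥ pt x e = pt x e := fun x => by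
    rw [hu, Units.val_mul, ← mulVec_mulVec, hGe]
    refine mulVec_injective y₀ ?_
    simp only
    rw [Transvec.mulVec_inv_cancel, hy₀v, hBe]
  have hud : ∀ d, f₂ d e = 0 → ∀ x, ∃ y, u.val *ᵥ pt x d = pt x d + pt y e := fun d hd x => by
    obtain ⟨y, hy⟩ := hgW d hd x
    have hB : Bm d = B₀ d + (f₂ d e' - f₂ (B₀ d) e' - f₂ d e' * f₂ e e') • e +
        (f₂ d e' * f₂ (B₀ e) e') • e - f₂ d e' • B₀ e + f₂ d e' • e := by
      rw [hBm, hπ (B₀ _), hB₀e _ (hπe d), hπ d, hd, map_sub, map_sub, map_smul, map_smul, sub_left' h2, sub_left' h2,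
        h2.smul_left, h2.smul_left, h21']
      simp only [zero_smul, zero_mul, mul_zero, sub_zero, sub_smul, add_smul, mul_one]
      module
    have hB₀ee : B₀ e = e := by rw [hB₀, hGe, slA_pt, hψ, one_smul]
    rw [hB₀ee, h21', mul_one] at hB
    obtain ⟨ρ, hρ⟩ : ∃ ρ : F, Bm d = B₀ d + ρ • e := ⟨f₂ d e' - f₂ (B₀ d) e', by rw [hB]; module⟩
    obtain ⟨y', hy'⟩ := hGsurj (y - ρ • G x)
    refine ⟨y', mulVec_injective y₀ ?_⟩
    simp only
    rw [hu, Units.val_mul, ← mulVec_mulVec, Transvec.mulVec_inv_cancel, mulVec_add, hy₀v, hy₀v, hBe, hy', hy, hρ,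
      pt_add_right, pt_smul_right, pt_sub_left, pt_smul_left]
    abel
  have hctru : ∀ v, ctr f₂ e (u.val *ᵥ v) = ctr f₂ e v := fun v => by
    by_contra hne
    obtain ⟨y, hy⟩ := (h1.nondegenerate _ (sub_ne_zero.mpr hne)).2
    exact hy (by rw [sub_left' h1, T.ctr_image hui (huW y) v, sub_self])
  have hdet : u.val.det = 1 := det_eq_one_of_nilpotent ⟨3, Matrix.ext_iff_mulVec.2 fun v => by
    obtain ⟨N, hN⟩ : ∃ N : (Fin a × Fin b → F) →ₗ[F] (Fin a × Fin b → F), ∀ v, N v = (u.val - 1) *ᵥ v :=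
      ⟨Matrix.mulVecLin (u.val - 1), fun v => rfl⟩
    have hN' : ∀ v, N v = u.val *ᵥ v - v := fun v => by rw [hN, sub_mulVec, one_mulVec]
    rw [zero_mulVec, pow_succ, pow_succ, pow_one, ← mulVec_mulVec, ← mulVec_mulVec, ← hN, ← hN, ← hN]
    have hW : N (N v) ∈ pureW a e := by
      refine mem_of_ctr_zero T h21 (Z := (pureW a e).comap N) (fun x d hd => ?_)
        (by rw [hN', map_sub, hctru, sub_self])
      obtain ⟨y, hy⟩ := hud d hd x
      change N (pt x d) ∈ pureW a e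
      rw [hN', hy, add_sub_cancel_left]
      exact pt_mem_pureW _ _
    obtain ⟨y, hy⟩ := hW
    rw [← hy, hN', ptL_apply, huW, sub_self]⟩
  have hy₀M : y₀ ∈ M := by
    refine C.le _ (hy₀ ▸ isKron_kr _ _) hy₀i ?_
    have := (C.sub g hg).2
    rwa [show g = y₀ * u by rw [hu, mul_inv_cancel_left], Units.val_mul, det_mul, hdet, mul_one] at this
  have huK := kron_of_shear C he0 hee (hu ▸ mul_mem (inv_mem hy₀M) hg) huW hud
  rw [show g = y₀ * u by rw [hu, mul_inv_cancel_left]]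
  exact (Cfsg.Geo.kroneckerSubgroup a b F).mul_mem (hy₀ ▸ isKron_kr _ _) huK

omit he0 hee in
/-- Elements fixing a pure subspace of the other type are tensor products. -/
theorem kron_of_fixD {d : Fin a → F} (hd0 : d ≠ 0) (hdd : f₁ d d = 0) {g : GL (Fin a × Fin b) F} (hg : g ∈ M)
    (hfix : ∀ v, ∃ w, g.val *ᵥ pt d v = pt d w) : IsKron g :=
  isKron_swap.mp (kron_of_fix C.swap hd0 hdd ⟨g, hg, rfl⟩ fun v => (hfix v).imp fun w hw => by
    change (swapEquiv a b F g).val *ᵥ pt v d = pt w d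
    rw [← swapV_pt, swapEquiv_mulVec, hw, swapV_pt])

end CfsgLib.Classical22.TensorMax.UnitT
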