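/-
Every element of a group between the tensor stabiliser and the special unitary group that misses a transvection is
a tensor product.
-/
import Cfsg.Agent.Lib.Classical22.UnitTensor.Flag
import Cfsg.Agent.Lib.Classical22.UnitTensor.PGroup
import Cfsg.Agent.Lib.Classical22.UnitTensor.Inv

set_option autoImplicit false
set_option linter.unusedSectionVars false
set_option maxHeartbeats 800000

namespace CfsgLib.Classical22.TensorMax.UnitT

open Matrix Kronecker CfsgLib.Transvec CfsgLib.Transvec.Unitary CfsgLib.Classical22.TensorMax.SympO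
open CfsgLib.Classical22.TensorMax.SpO (kr kr_apply isKron_kr)
open scoped MatrixGroups

variable {F : Type*} [Field F] [Fintype F] {a b : ℕ} {σ : F ≃+* F}
  {f : (Fin a × Fin b → F) → (Fin a × Fin b → F) → F} {f₁ : (Fin a → F) → (Fin a → F) → F}
  {f₂ : (Fin b → F) → (Fin b → F) → F} {M : Subgroup (GL (Fin a × Fin b) F)}

/-- The root element of the second factor at `u`. -/
noncomputable def root (a : ℕ) (f₂ : (Fin b → F) → (Fin b → F) → F) (u : Fin b → F) (c : F) :
    GL (Fin a × Fin b) F :=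
  kr (1 : GL (Fin a) F) (uT f₂ u c)

variable (C : Ctx σ f f₁ f₂ M)
include C

lemma root_mem' {u : Fin b → F} (hu : f₂ u u = 0) {c : F} (hc : c + σ c = 0) : root a f₂ u c ∈ M :=
  C.transB_mem (uT_mem C.tens.right hu hc)

lemma root_sub {u : Fin b → F} (hu : f₂ u u = 0) (c : F) (v : Fin a × Fin b → F) :
    (root a f₂ u c).val *ᵥ v - v = c • pt (ctr f₂ u v) u := by
  rw [root, C.tens.root_apply hu, add_sub_cancel_left]

lemma move_root {u : Fin b → F} (hu0 : u ≠ 0) (hu : f₂ u u = 0) {c : F} (hc : c ≠ 0) :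
    move (root a f₂ u c) = pureW a u := by
  refine le_antisymm ?_ ?_
  · intro v hv
    obtain ⟨w, rfl⟩ := mem_move.mp hv
    rw [root_sub C hu]
    exact Submodule.smul_mem _ _ (pt_mem_pureW _ _)
  · rintro _ ⟨x, rfl⟩
    obtain ⟨y, hy⟩ := exists_dual C.tens.right hu0 1
    exact mem_move.mpr ⟨pt (c⁻¹ • x) y, by
      rw [root_sub C hu, C.tens.ctr_pt, hy, one_smul, pt_smul_left, smul_inv_smul₀ hc, ptL_apply]⟩

/-- An element conjugating a root into a tensor product is one. -/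
theorem kron_of_conj (hab : a < b) {g : GL (Fin a × Fin b) F} (hg : g ∈ M) {u : Fin b → F} (hu0 : u ≠ 0)
    (hu : f₂ u u = 0) {c : F} (hc0 : c ≠ 0) (hK : IsKron (g * root a f₂ u c * g⁻¹)) : IsKron g := by
  have T := C.tens
  have hmv : move (g * root a f₂ u c * g⁻¹) = img g (pureW a u) := by rw [move_conj, move_root C hu0 hu hc0]
  have hdim : Module.finrank F (move (g * root a f₂ u c * g⁻¹)) = a := by rw [hmv, finrank_img, finrank_pureW hu0]
  obtain ⟨d, hd0, hd⟩ := move_kron hab hK (fun h => by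
    rw [h, show move (1 : GL (Fin a × Fin b) F) = ⊥ from (Submodule.eq_bot_iff _).mpr fun v hv => by
      obtain ⟨w, rfl⟩ := mem_move.mp hv; rw [Units.val_one, one_mulVec, sub_self], finrank_bot] at hdim
    have := C.dimA
    omega) hdim.le
  rw [hmv] at hd
  have hpre : ∀ y, ∃ x, g.val *ᵥ pt x u = pt y d := fun y => by
    obtain ⟨_, ⟨x, rfl⟩, hx⟩ := mem_img.mp (hd.symm ▸ pt_mem_pureW y d : pt y d ∈ img g (pureW a u))
    exact ⟨x, hx⟩
  obtain ⟨x₀, hx₀⟩ : ∃ x : Fin a → F, x ≠ 0 := ⟨Pi.single ⟨0, by have := C.dimA; omega⟩ 1, by simp⟩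
  have hdd : f₂ d d = 0 := by
    obtain ⟨y, hy⟩ := (T.left.nondegenerate x₀ hx₀).2
    obtain ⟨x, hx⟩ := hpre x₀
    obtain ⟨x', hx'⟩ := hpre y
    have := C.iso hg (pt x u) (pt x' u)
    rw [hx, hx', T.pure, T.pure, hu, mul_zero] at this
    exact (mul_eq_zero.mp this).resolve_left hy
  obtain ⟨k, hk, l, hl, hkd⟩ := exists_move_iso T.right (by rw [Fintype.card_fin]; exact C.dimB) hd0 hu0 hdd hu
  have hK' := kron_of_fix C hu0 hu (g := kr 1 k * g) (mul_mem (C.transB_mem hk) hg) fun x => by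
    obtain ⟨y, hy⟩ : g.val *ᵥ pt x u ∈ pureW a d := hd ▸ mem_img.mpr ⟨_, pt_mem_pureW x u, rfl⟩
    refine ⟨l • y, ?_⟩
    rw [Transvec.mul_mulVec, ← hy, ptL_apply, kr_apply, Units.val_one, one_mulVec, hkd, pt_smul_right, pt_smul_left]
  have := (Cfsg.Geo.kroneckerSubgroup a b F).mul_mem
    ((Cfsg.Geo.kroneckerSubgroup a b F).inv_mem (isKron_kr (1 : GL (Fin a) F) k)) hK'
  rwa [inv_mul_cancel_left] at this

/-- A p-group containing a root consists of tensor products. -/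
theorem kron_of_pGroup (hab : a < b) {p : ℕ} [Fact p.Prime] {Q : Subgroup (GL (Fin a × Fin b) F)} (hQ : Q ≤ M)
    (hp : IsPGroup p Q) {u : Fin b → F} (hu0 : u ≠ 0) (hu : f₂ u u = 0) {c : F} (hc0 : c ≠ 0)
    (hx : root a f₂ u c ∈ Q) : ∀ g ∈ Q, IsKron g := by
  by_contra hne
  push Not at hne
  obtain ⟨H, hH⟩ : ∃ H, H = (Cfsg.Geo.kroneckerSubgroup a b F).subgroupOf Q := ⟨_, rfl⟩
  have hlt : H < ⊤ := lt_top_iff_ne_top.mpr fun h => by
    obtain ⟨g, hg, hgK⟩ := hne
    have : (⟨g, hg⟩ : Q) ∈ H := h ▸ Subgroup.mem_top _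
    exact hgK (by rw [hH] at this; exact this)
  haveI := hp.isNilpotent
  obtain ⟨⟨g, hgQ⟩, hgn, hgH⟩ := SetLike.exists_of_lt (Group.normalizerCondition_of_isNilpotent H hlt)
  refine hgH (hH ▸ kron_of_conj C hab (hQ hgQ) hu0 hu hc0 ?_)
  have hxH : (⟨_, hx⟩ : Q) ∈ H := hH ▸ isKron_kr _ _
  have := (Subgroup.mem_normalizer_iff.mp hgn ⟨_, hx⟩).mp hxH
  rw [hH] at this
  exact this

omit C in
/-- Elements whose moved space lies in a given subspace. -/
lemma moved_le {W : Submodule F (Fin a × Fin b → F)} {x z : GL (Fin a × Fin b) F}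
    (hx : ∀ v, x.val *ᵥ v - v ∈ W) (hz : ∀ v, z.val *ᵥ v - v ∈ W) {h : GL (Fin a × Fin b) F}
    (hh : h ∈ Subgroup.closure ({x, z} : Set (GL (Fin a × Fin b) F))) : ∀ v, h.val *ᵥ v - v ∈ W := by
  induction hh using Subgroup.closure_induction with
  | mem g hg =>
    rcases hg with rfl | rfl
    exacts [hx, hz]
  | one => intro v; rw [Units.val_one, one_mulVec, sub_self]; exact W.zero_mem
  | mul g g' _ _ h h' =>
    intro v
    rw [Transvec.mul_mulVec]
    simpa using W.add_mem (h (g'.val *ᵥ v)) (h' v)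
  | inv g _ h =>
    intro v
    have := W.neg_mem (h (g⁻¹.val *ᵥ v))
    rwa [Transvec.mulVec_inv_cancel, neg_sub] at this

/-- An element fixing `d ⊗ B` with small moved space forces `g` to be a tensor product. -/
theorem kron_of_elem (hab : a < b) (hb : 3 ≤ b)
    {g : GL (Fin a × Fin b) F} (hg : g ∈ M) {d : Fin a → F} (hd0 : d ≠ 0) (hdd : f₁ d d = 0) {u₀ : Fin b → F}
    (hu00 : u₀ ≠ 0) (hu0 : f₂ u₀ u₀ = 0) {c₀ : F} (hc00 : c₀ ≠ 0) (hc0 : c₀ + σ c₀ = 0)
    {h : GL (Fin a × Fin b) F} (hh : h ∈ M) (hh1 : h ≠ 1) (hfix : img h (pureD b d) = pureD b d)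
    (hmv : ∀ v, h.val *ᵥ v - v ∈ pureD b d ⊔ img g (pureW a u₀))
    (hcase : Commute h (g * root a f₂ u₀ c₀ * g⁻¹) ∨ ∃ y ∈ pureD b d, h.val *ᵥ y ≠ y) :
    IsKron g ∨ pureD b d ⊓ img g (pureW a u₀) = ⊥ ∧
      (4 ≤ b → ∃ u, u ≠ 0 ∧ f₂ u u = 0 ∧ ∀ r ∈ img g (pureW a u₀), f r (pt d u) = 0) := by
  classical
  have T := C.tens
  have hu := T.uni
  have h1 := T.left
  have h2 := T.right
  obtain ⟨z, hz⟩ : ∃ z, z = g * root a f₂ u₀ c₀ * g⁻¹ := ⟨_, rfl⟩
  rw [← hz] at hcase
  have hzM : z ∈ M := hz ▸ mul_mem (mul_mem hg (root_mem' C hu0 hc0)) (inv_mem hg)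
  obtain ⟨R, hR⟩ : ∃ R, R = img g (pureW a u₀) := ⟨_, rfl⟩
  rw [← hR] at hmv
  have hzR : move z = R := by rw [hz, move_conj, move_root C hu00 hu0 hc00, hR]
  have hRdim : Module.finrank F R = a := by rw [hR, finrank_img, finrank_pureW hu00]
  have hDdim := finrank_pureD (b := b) hd0
  obtain ⟨A₁, B₁, hAB⟩ := isKron_apply (kron_of_fixD C hd0 hdd hh fun v => by
    obtain ⟨w, hw⟩ : h.val *ᵥ pt d v ∈ pureD b d := hfix ▸ mem_img.mpr ⟨_, pt_mem_pureD d v, rfl⟩
    exact ⟨w, hw.symm⟩)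
  obtain ⟨v₁, hv₁⟩ : ∃ v : Fin b → F, v ≠ 0 := ⟨Pi.single ⟨0, by omega⟩ 1, by simp⟩
  obtain ⟨α, hα⟩ : ∃ α : F, A₁.val *ᵥ d = α • d := by
    obtain ⟨w, hw⟩ : h.val *ᵥ pt d v₁ ∈ pureD b d := hfix ▸ mem_img.mpr ⟨_, pt_mem_pureD d v₁, rfl⟩
    rw [hAB] at hw
    obtain ⟨j, hj⟩ := Function.ne_iff.mp (mulVec_ne_zero B₁ hv₁)
    refine ⟨w j / (B₁.val *ᵥ v₁) j, funext fun i => ?_⟩
    have := congrFun hw (i, j)
    simp only [ptR, LinearMap.coe_mk, AddHom.coe_mk, pt] at this
    rw [Pi.smul_apply, smul_eq_mul, div_mul_eq_mul_div, eq_div_iff hj, ← this, mul_comm]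
  -- the first factor is scalar modulo d
  have heig : ∀ x, A₁.val *ᵥ x ∈ Submodule.span F ({x, d} : Set (Fin a → F)) := by
    intro x
    by_contra hne
    obtain ⟨ψ, hψ, hψA⟩ := exists_functional hne
    obtain ⟨Φ, hΦ⟩ : ∃ Φ : ((Fin b → F) × (Fin b → F)) →ₗ[F] (Fin a × Fin b → F),
        ∀ v w, Φ (v, w) = h.val *ᵥ pt x v - pt x v + pt d w :=
      ⟨((Matrix.mulVecLin h.val).comp (ptR x) - ptR x).comp (LinearMap.fst F _ _) +
        (ptR d).comp (LinearMap.snd F _ _), fun v w => rfl⟩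
    have hinj : Function.Injective Φ := (injective_iff_map_eq_zero Φ).mpr fun vw hvw => by
      obtain ⟨v, w⟩ := vw
      rw [hΦ, hAB] at hvw
      have e := congrArg (slA ψ) hvw
      rw [map_add, map_sub, slA_pt, slA_pt, slA_pt, hψA, hψ x (Submodule.subset_span (by simp)),
        hψ d (Submodule.subset_span (by simp)), one_smul, zero_smul, zero_smul, sub_zero, add_zero, map_zero] at e
      have hv : v = 0 := by
        by_contra hv
        exact mulVec_ne_zero B₁ hv e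
      subst hv
      rw [mulVec_zero, pt_zero_right, pt_zero_right, sub_zero, zero_add] at hvw
      have hw : w = 0 := ptR_injective hd0 (show pt d w = pt d 0 by rw [hvw, pt_zero_right])
      rw [hw]
      rfl
    have hle : LinearMap.range Φ ≤ pureD b d ⊔ R := by
      rintro _ ⟨⟨v, w⟩, rfl⟩
      rw [hΦ]
      exact add_mem (hmv _) (Submodule.mem_sup_left (pt_mem_pureD d w))
    have e1 := (Submodule.finrank_mono hle).trans (Submodule.finrank_add_le_finrank_add_finrank _ _)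
    rw [LinearMap.finrank_range_of_inj hinj, Module.finrank_prod, Module.finrank_fin_fun, hDdim, hRdim] at e1
    omega
  obtain ⟨x₁, hx₁⟩ : ∃ x, x ∉ Submodule.span F ({d} : Set (Fin a → F)) := by
    by_contra hall
    push Not at hall
    have e1 := Submodule.finrank_mono (show (⊤ : Submodule F (Fin a → F)) ≤ Submodule.span F {d} from fun x _ => hall x)
    rw [finrank_top, Module.finrank_fin_fun, finrank_span_singleton hd0] at e1
    have := C.dimA
    omega
  obtain ⟨l, m₁, hl⟩ := Submodule.mem_span_pair.mp (heig x₁)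
  have hscal : ∀ x, A₁.val *ᵥ x - l • x ∈ Submodule.span F {d} := by
    intro x
    by_cases hx : x ∈ Submodule.span F ({x₁, d} : Set (Fin a → F))
    · obtain ⟨p, r, rfl⟩ := Submodule.mem_span_pair.mp hx
      refine Submodule.mem_span_singleton.mpr ⟨p * m₁ + r * α - l * r, ?_⟩
      rw [mulVec_add, mulVec_smul, mulVec_smul, hα, ← hl]
      module
    obtain ⟨lx, mx, hlx⟩ := Submodule.mem_span_pair.mp (heig x)
    obtain ⟨m, m', hm⟩ := Submodule.mem_span_pair.mp (heig (x + x₁))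
    rw [mulVec_add, ← hlx, ← hl] at hm
    have e1 : (m - lx) • x = (l - m) • x₁ + (mx + m₁ - m') • d := by linear_combination (norm := module) hm
    have e2 : m = lx := by
      by_contra hne
      refine hx ?_
      rw [← inv_smul_smul₀ (sub_ne_zero.mpr hne) x, e1]
      exact Submodule.smul_mem _ _ (Submodule.add_mem _ (Submodule.smul_mem _ _ (Submodule.subset_span (by simp)))
        (Submodule.smul_mem _ _ (Submodule.subset_span (by simp))))
    rw [e2, sub_self, zero_smul] at e1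
    have e3 : l = lx := by
      by_contra hne
      refine hx₁ ?_
      rw [← inv_smul_smul₀ (sub_ne_zero.mpr hne) x₁, eq_neg_of_add_eq_zero_left e1.symm]
      exact Submodule.smul_mem _ _ (Submodule.neg_mem _ (Submodule.smul_mem _ _ (Submodule.mem_span_singleton_self d)))
    exact Submodule.mem_span_singleton.mpr ⟨mx, by rw [← hlx, e3]; module⟩
  have hl0 : l ≠ 0 := fun h0 => by
    rw [h0, zero_smul, zero_add] at hl
    have hα0 : α ≠ 0 := fun h => mulVec_ne_zero A₁ hd0 (by rw [hα, h, zero_smul])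
    refine hx₁ (Submodule.mem_span_singleton.mpr ⟨m₁ / α, (mulVec_injective A₁ ?_).symm⟩)
    simp only
    rw [mulVec_smul, hα, smul_smul, div_mul_cancel₀ _ hα0, hl]
  obtain ⟨φ, hφ⟩ : ∃ φ : (Fin a → F) → F, ∀ x, l⁻¹ • (A₁.val *ᵥ x) = x + φ x • d := by
    choose φ hφ using fun x => Submodule.mem_span_singleton.mp (hscal x)
    exact ⟨fun x => l⁻¹ * φ x, fun x => by
      rw [← smul_smul, hφ, smul_sub, inv_smul_smul₀ hl0, add_sub_cancel]⟩
  have hAB2 : ∀ x v, h.val *ᵥ pt x v = pt (x + φ x • d) (l • (B₁.val *ᵥ v)) := fun x v => by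
    rw [hAB, ← hφ, pt_smul_left, pt_smul_right, smul_smul, inv_mul_cancel₀ hl0, one_smul]
  by_cases hB : ∀ v, l • (B₁.val *ᵥ v) = v
  · -- a large root
    have hh' : ∀ x v, h.val *ᵥ pt x v = pt x v + φ x • pt d v := fun x v => by
      rw [hAB2, hB, pt_add_left, pt_smul_left]
    have hφd : φ d = 0 := by
      obtain ⟨y, hy⟩ := (hu.nondegenerate (pt d v₁) (fun h0 => hv₁ (ptR_injective hd0
        (h0.trans (pt_zero_right d).symm)))).2
      rw [eq_sum_pt y] at hy
      obtain ⟨j, hj⟩ : ∃ j, f (pt d v₁) (pt (fun i => y (i, j)) (Pi.single j 1)) ≠ 0 := by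
        by_contra hall
        push Not at hall
        refine hy ?_
        induction (Finset.univ : Finset (Fin b)) using Finset.cons_induction with
        | empty => rw [Finset.sum_empty, zero_right' hu]
        | cons j s hj ih => rw [Finset.sum_cons, Unitary.add_right' hu, hall, ih, add_zero]
      have := C.iso hh (pt d v₁) (pt (fun i => y (i, j)) (Pi.single j 1))
      rw [hh', hh', hu.add_left, hu.smul_left, Unitary.add_right' hu, smul_right' hu,
        show f (pt d v₁) (pt d (Pi.single j 1)) = 0 by rw [T.pure, hdd, zero_mul], mul_zero, add_zero] at this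
      exact (mul_eq_zero.mp (add_eq_left.mp this)).resolve_right hj
    rcases hcase with hc | ⟨y, hy, hyne⟩
    · obtain ⟨x₂, hx₂⟩ : ∃ x, φ x ≠ 0 := by
        by_contra hall
        push Not at hall
        exact hh1 (ext_pt fun x j => by rw [hh', hall, zero_smul, add_zero, Units.val_one, one_mulVec])
      have hmh : move h = pureD b d := by
        refine le_antisymm (fun v hv => ?_) ?_
        · obtain ⟨w, rfl⟩ := mem_move.mp hv
          rw [eq_sum_pt w, Matrix.mulVec_sum, ← Finset.sum_sub_distrib]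
          exact sum_mem fun j _ => by
            rw [hh', add_sub_cancel_left]; exact Submodule.smul_mem _ _ (pt_mem_pureD _ _)
        · rintro _ ⟨v, rfl⟩
          refine mem_move.mpr ⟨pt x₂ ((φ x₂)⁻¹ • v), ?_⟩
          rw [hh', add_sub_cancel_left, pt_smul_right, smul_inv_smul₀ hx₂]
          rfl
      have hzD : img z (pureD b d) = pureD b d := by
        rw [← hmh, ← move_conj, ← hc.eq, mul_inv_cancel_right]
      exact Or.inl <| kron_of_conj C hab hg hu00 hu0 hc00 (hz ▸ kron_of_fixD C hd0 hdd hzM fun v => by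
        obtain ⟨w, hw⟩ : z.val *ᵥ pt d v ∈ pureD b d := hzD ▸ mem_img.mpr ⟨_, pt_mem_pureD d v, rfl⟩
        exact ⟨w, hw.symm⟩)
    · obtain ⟨v, rfl⟩ := hy
      refine absurd ?_ hyne
      change h.val *ᵥ pt d v = pt d v
      rw [hh', hφd, zero_smul, add_zero]
  -- the second factor moves some vector
  push Not at hB
  obtain ⟨v₀, hv₀⟩ := hB
  obtain ⟨e, he⟩ : ∃ e, e = l • (B₁.val *ᵥ v₀) - v₀ := ⟨_, rfl⟩
  have he0 : e ≠ 0 := he ▸ sub_ne_zero.mpr hv₀
  have hxe : ∀ x, pt x e ∈ pureD b d ⊔ R := fun x => by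
    have := Submodule.sub_mem _ (hmv (pt x v₀)) (Submodule.mem_sup_left
      (Submodule.smul_mem _ (φ x) (pt_mem_pureD d (l • (B₁.val *ᵥ v₀)))))
    convert this using 1
    rw [hAB2, he, pt_sub_right, pt_add_left, pt_smul_left]
    abel
  obtain ⟨S, hS⟩ : ∃ S, S = pureW a e ⊔ pureD b d := ⟨_, rfl⟩
  have hinf : pureW a e ⊓ pureD b d ≤ Submodule.span F {pt d e} := by
    rintro v ⟨⟨x, rfl⟩, ⟨w, hw⟩⟩
    obtain ⟨j, hj⟩ := Function.ne_iff.mp he0
    refine Submodule.mem_span_singleton.mpr ⟨w j / e j, ?_⟩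
    rw [ptL_apply, ← pt_smul_left]
    congr 1
    funext i
    have := congrFun hw (i, j)
    simp only [ptR, LinearMap.coe_mk, AddHom.coe_mk, ptL_apply, pt] at this
    rw [Pi.smul_apply, smul_eq_mul, div_mul_eq_mul_div, div_eq_iff hj, ← this, mul_comm]
  have hSdim : a + b ≤ Module.finrank F S + 1 := by
    have e1 := Submodule.finrank_sup_add_finrank_inf_eq (pureW a e) (pureD b d)
    have e2 := (Submodule.finrank_mono hinf).trans (finrank_span_le_card ({pt d e} : Set (Fin a × Fin b → F)))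
    rw [Set.toFinset_singleton, Finset.card_singleton] at e2
    rw [← hS, finrank_pureW he0, hDdim] at e1
    omega
  have hRS : Module.finrank F R ≤ Module.finrank F ↥(R ⊓ S) + 1 := by
    have e1 := Submodule.finrank_sup_add_finrank_inf_eq R S
    have e2 : R ⊔ S ≤ pureD b d ⊔ R := sup_le le_sup_right (hS ▸ sup_le (fun v hv => by
      obtain ⟨x, rfl⟩ := hv; exact hxe x) le_sup_left)
    have e3 := (Submodule.finrank_mono e2).trans (Submodule.finrank_add_le_finrank_add_finrank _ _)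
    rw [hDdim, hRdim] at e3
    omega
  obtain ⟨S', hS'⟩ : ∃ S', S' = pureD b d ⊔ R := ⟨_, rfl⟩
  have hSS' : S ≤ S' := hS' ▸ hS ▸ sup_le (fun v hv => by obtain ⟨x, rfl⟩ := hv; exact hxe x) le_sup_left
  have hctrS : ∀ u, f₂ u e = 0 → ∀ r ∈ S, ctr f₂ u r ∈ Submodule.span F ({d} : Set (Fin a → F)) := fun u hue r hr => by
    obtain ⟨_, ⟨x, rfl⟩, _, ⟨v, rfl⟩, rfl⟩ := Submodule.mem_sup.mp (hS ▸ hr)
    rw [map_add, ptL_apply, show ptR d v = pt d v from rfl, T.ctr_pt, T.ctr_pt, (eq_zero_comm h2).1 hue, zero_smul,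
      zero_add]
    exact Submodule.smul_mem _ _ (Submodule.mem_span_singleton_self d)
  by_cases hle : R ≤ S
  swap
  · -- a pure isotropic vector orthogonal to the moved space
    right
    have hinfD : pureD b d ⊓ R = ⊥ := by
      by_contra hne
      have e1 := Submodule.finrank_sup_add_finrank_inf_eq (pureD b d) R
      have e2 : 1 ≤ Module.finrank F ↥(pureD b d ⊓ R) := Nat.one_le_iff_ne_zero.mpr fun h0 =>
        hne (Submodule.finrank_eq_zero.mp h0)
      rw [hDdim, hRdim, ← hS'] at e1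
      exact hle ((hS' ▸ le_sup_right : R ≤ S').trans
        (Submodule.eq_of_le_of_finrank_le hSS' (by omega)).ge)
    rw [← hR]
    refine ⟨hinfD, fun hb4 => ?_⟩
    obtain ⟨r₀, hr₀, hr₀S⟩ := SetLike.not_le_iff_exists.mp hle
    have hlt : R ⊓ S < (R ⊓ S) ⊔ Submodule.span F {r₀} :=
      left_lt_sup.mpr fun h => hr₀S (h (Submodule.mem_span_singleton_self r₀)).2
    have hle2 : (R ⊓ S) ⊔ Submodule.span F {r₀} ≤ R :=
      sup_le inf_le_left ((Submodule.span_singleton_le_iff_mem _ _).mpr hr₀)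
    have hgen := (Submodule.eq_of_le_of_finrank_le hle2
      (by have := Submodule.finrank_lt_finrank_of_lt hlt; omega)).ge
    obtain ⟨φ₂, hφ₂⟩ : ∃ φ₂ : (Fin b → F) →ₗ[F] F × F, ∀ u, φ₂ u = (f₂ u e, f (pt d u) r₀) :=
      ⟨(linL h2 e).prod ((linL hu r₀).comp (ptR d)), fun u => rfl⟩
    obtain ⟨u, huker, hu0', huu⟩ := exists_iso_mem h2 (U := LinearMap.ker φ₂) (by
      have e1 := LinearMap.finrank_range_add_finrank_ker φ₂
      have e2 := Submodule.finrank_le (LinearMap.range φ₂)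
      rw [Module.finrank_prod, Module.finrank_self] at e2
      rw [Module.finrank_fin_fun] at e1
      omega)
    rw [LinearMap.mem_ker, hφ₂, Prod.mk_eq_zero] at huker
    refine ⟨u, hu0', huu, fun r hr => ?_⟩
    have hmem : (R ⊓ S) ⊔ Submodule.span F {r₀} ≤ LinearMap.ker (linL hu (pt d u)) := by
      refine sup_le (fun w hw => ?_) ((Submodule.span_singleton_le_iff_mem _ _).mpr
        (LinearMap.mem_ker.mpr ((eq_zero_comm hu).1 huker.2)))
      obtain ⟨j, hj⟩ := Submodule.mem_span_singleton.mp (hctrS u huker.1 w hw.2)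
      refine LinearMap.mem_ker.mpr ?_
      change f w (pt d u) = 0
      rw [T.f_pt, ← hj, h1.smul_left, hdd, mul_zero]
    exact LinearMap.mem_ker.mp (hmem (hgen hr))
  left
  obtain ⟨u, huker, hune, hc1⟩ := exists_iso_mem h2 (U := LinearMap.ker (linL h2 e)) (by
    have e1 := LinearMap.finrank_range_add_finrank_ker (linL h2 e)
    have e2 := Submodule.finrank_le (LinearMap.range (linL h2 e))
    rw [Module.finrank_self] at e2
    rw [Module.finrank_fin_fun] at e1
    omega)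
  obtain ⟨Y, hY⟩ : ∃ Y : Submodule F (Fin a → F), Y = Submodule.span F ({d} : Set (Fin a → F)) := ⟨_, rfl⟩
  have hYiso : ∀ p ∈ Y, ∀ p' ∈ Y, f₁ p p' = 0 := by
    intro p hp p' hp'
    rw [hY, Submodule.mem_span_singleton] at hp hp'
    obtain ⟨i, rfl⟩ := hp
    obtain ⟨i', rfl⟩ := hp'
    rw [h1.smul_left, smul_right' h1, hdd, mul_zero, mul_zero]
  have hRY : ∀ r ∈ R, ctr f₂ u r ∈ Y := fun r hr => hY ▸ hctrS u (LinearMap.mem_ker.mp huker) r (hle hr)
  obtain ⟨p, hp⟩ := CharP.exists F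
  haveI : Fact p.Prime := ⟨CharP.char_is_prime F p⟩
  haveI : Nonempty (Fin a × Fin b) := ⟨(⟨0, by have := C.dimA; omega⟩, ⟨0, by omega⟩)⟩
  obtain ⟨s, hs0, hs⟩ := exists_skew h2.ne_refl h2.involutive
  obtain ⟨x, hx⟩ : ∃ x, x = root a f₂ u s := ⟨_, rfl⟩
  have hzv : ∀ v, (z.val - 1) *ᵥ v ∈ R := fun v => by
    rw [← hzR, sub_mulVec, one_mulVec]; exact mem_move.mpr ⟨v, rfl⟩
  have hzperp : ∀ v, (∀ r ∈ R, f v r = 0) → (z.val - 1) *ᵥ v = 0 := fun v hv => by
    rw [sub_mulVec, one_mulVec, hz, Transvec.mul_mulVec, Transvec.mul_mulVec, root, T.root_apply hu0, mulVec_add,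
      Transvec.mulVec_inv_cancel, add_sub_cancel_left, show ctr f₂ u₀ (g⁻¹.val *ᵥ v) = 0 from ?_, pt_zero_left,
      smul_zero, mulVec_zero]
    by_contra hne
    obtain ⟨y, hy⟩ := (h1.nondegenerate _ hne).2
    refine hy ?_
    rw [← T.f_pt, ← C.iso hg, Transvec.mulVec_inv_cancel]
    exact hv _ (hR ▸ mem_img.mpr ⟨_, pt_mem_pureW _ _, rfl⟩)
  have hRR : ∀ r ∈ R, ∀ r' ∈ R, f r r' = 0 := by
    intro r hr r' hr'
    obtain ⟨_, ⟨y, rfl⟩, rfl⟩ := mem_img.mp (hR ▸ hr)
    obtain ⟨_, ⟨y', rfl⟩, rfl⟩ := mem_img.mp (hR ▸ hr')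
    rw [C.iso hg, ptL_apply, ptL_apply, T.pure, hu0, mul_zero]
  have hxsq : (x.val - 1) * (x.val - 1) = 0 := Matrix.ext_iff_mulVec.2 fun v => by
    rw [← mulVec_mulVec, zero_mulVec]
    simp only [sub_mulVec, one_mulVec, hx, root_sub C hc1, map_smul, T.ctr_pt, hc1, zero_smul, pt_zero_left,
      smul_zero]
  have hzsq : (z.val - 1) * (z.val - 1) = 0 := Matrix.ext_iff_mulVec.2 fun v => by
    rw [← mulVec_mulVec, zero_mulVec]
    exact hzperp _ (hRR _ (hzv v))
  have hzxz : (z.val - 1) * ((x.val - 1) * (z.val - 1)) = 0 := Matrix.ext_iff_mulVec.2 fun v => by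
    rw [← mulVec_mulVec, ← mulVec_mulVec, zero_mulVec]
    refine hzperp _ fun r hr => ?_
    rw [sub_mulVec (x.val), one_mulVec, hx, root_sub C hc1, hu.smul_left, hu.herm, T.f_pt,
      hYiso _ (hRY r hr) _ (hRY _ (hzv v)), map_zero, mul_zero]
  have hP := isPGroup_closure p hxsq hzsq (N := 2)
    (by rw [pow_two, mul_assoc, hzxz, mul_zero])
  have hQ : Subgroup.closure ({x, z} : Set (GL (Fin a × Fin b) F)) ≤ M := (Subgroup.closure_le M).mpr (by
    rintro _ (rfl | rfl)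
    exacts [hx ▸ root_mem' C hc1 hs, hzM])
  exact kron_of_conj C hab hg hu00 hu0 hc00 (hz ▸ kron_of_pGroup C hab hQ hP hune hc1 hs0
    (hx ▸ Subgroup.subset_closure (by simp)) z (Subgroup.subset_closure (by simp)))

/-- An element is a tensor product, or some pure isotropic vector is orthogonal to its moved space. -/
theorem kron_or_perp (hab : a < b) (hb : 3 ≤ b) {g : GL (Fin a × Fin b) F} (hg : g ∈ M) {d : Fin a → F}
    (hd0 : d ≠ 0) (hdd : f₁ d d = 0) {u₀ : Fin b → F} (hu00 : u₀ ≠ 0) (hu0 : f₂ u₀ u₀ = 0) :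
    IsKron g ∨ pureD b d ⊓ img g (pureW a u₀) = ⊥ ∧
      (4 ≤ b → ∃ u, u ≠ 0 ∧ f₂ u u = 0 ∧ ∀ r ∈ img g (pureW a u₀), f r (pt d u) = 0) := by
  classical
  have T := C.tens
  have hu := T.uni
  have h1 := T.left
  have h2 := T.right
  obtain ⟨c₀, hc00, hc0⟩ := exists_skew h1.ne_refl h1.involutive
  obtain ⟨x, hx⟩ : ∃ x, x = kr (uT f₁ d c₀) (1 : GL (Fin b) F) := ⟨_, rfl⟩
  obtain ⟨z, hz⟩ : ∃ z, z = g * root a f₂ u₀ c₀ * g⁻¹ := ⟨_, rfl⟩
  obtain ⟨R, hR⟩ : ∃ R, R = img g (pureW a u₀) := ⟨_, rfl⟩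
  have hxM : x ∈ M := hx ▸ C.transA_mem (uT_mem h1 hdd hc0)
  have hzM : z ∈ M := hz ▸ mul_mem (mul_mem hg (root_mem' C hu0 hc0)) (inv_mem hg)
  obtain ⟨XL, hXL⟩ : ∃ XL : (Fin a × Fin b → F) →ₗ[F] (Fin a × Fin b → F), ∀ v, XL v = x.val *ᵥ v - v :=
    ⟨Matrix.mulVecLin x.val - LinearMap.id, fun v => rfl⟩
  have hxpt : ∀ y v, x.val *ᵥ pt y v - pt y v = pt d ((c₀ * f₁ y d) • v) := fun y v => by
    rw [hx, kr_apply, uT_mulVec h1 hdd, Units.val_one, one_mulVec, pt_add_left, add_sub_cancel_left, pt_smul_left,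
      pt_smul_right]
  have hxD : ∀ v, x.val *ᵥ v - v ∈ pureD b d := fun v => by
    rw [eq_sum_pt v, Matrix.mulVec_sum, ← Finset.sum_sub_distrib]
    exact sum_mem fun j _ => by rw [hxpt]; exact pt_mem_pureD _ _
  have hxfix : ∀ v ∈ pureD b d, x.val *ᵥ v = v := by
    rintro _ ⟨v, rfl⟩
    rw [show ptR d v = pt d v from rfl, ← sub_eq_zero, hxpt, hdd, mul_zero, zero_smul, pt_zero_right]
  have hzR : ∀ v, z.val *ᵥ v - v ∈ R := fun v => by
    rw [hR, ← move_root C hu00 hu0 hc00, ← move_conj, ← hz]; exact mem_move.mpr ⟨v, rfl⟩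
  have hzfix : ∀ r ∈ R, z.val *ᵥ r = r := by
    intro r hr
    obtain ⟨_, ⟨y, rfl⟩, rfl⟩ := mem_img.mp (hR ▸ hr)
    rw [hz, Transvec.mul_mulVec, Transvec.mul_mulVec, Transvec.inv_mulVec_cancel]
    congr 1
    rw [← sub_eq_zero, root_sub C hu0, ptL_apply, T.ctr_pt, hu0, zero_smul, pt_zero_left, smul_zero]
  have hmoved : ∀ {h : GL (Fin a × Fin b) F}, h ∈ Subgroup.closure ({x, z} : Set (GL (Fin a × Fin b) F)) →
      ∀ v, h.val *ᵥ v - v ∈ pureD b d ⊔ R := fun {h} hh => moved_le (fun v => Submodule.mem_sup_left (hxD v))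
        (fun v => Submodule.mem_sup_right (hzR v)) hh
  have hQ : Subgroup.closure ({x, z} : Set (GL (Fin a × Fin b) F)) ≤ M :=
    (Subgroup.closure_le M).mpr (by rintro _ (rfl | rfl); exacts [hxM, hzM])
  have hmovex : move x = pureD b d := by
    refine le_antisymm (fun v hv => ?_) ?_
    · obtain ⟨w, rfl⟩ := mem_move.mp hv; exact hxD w
    · rintro _ ⟨v, rfl⟩
      obtain ⟨d', hd'⟩ := exists_dual h1 hd0 1
      exact mem_move.mpr ⟨pt d' (c₀⁻¹ • v), by
        rw [hxpt, hd', mul_one, smul_smul, mul_inv_cancel₀ hc00, one_smul]; rfl⟩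
  have hcentral : ∀ {h : GL (Fin a × Fin b) F}, h ∈ Subgroup.closure ({x, z} : Set (GL (Fin a × Fin b) F)) →
      h ≠ 1 → Commute h x → Commute h z → IsKron g ∨ pureD b d ⊓ img g (pureW a u₀) = ⊥ ∧
        (4 ≤ b → ∃ u, u ≠ 0 ∧ f₂ u u = 0 ∧ ∀ r ∈ img g (pureW a u₀), f r (pt d u) = 0) := fun {h} hh hh1 hcx hcz => by
    refine kron_of_elem C hab hb hg hd0 hdd hu00 hu0 hc00 hc0 (hQ hh) hh1 ?_ (hR ▸ hmoved hh)
      (Or.inl (hz ▸ hcz))
    rw [← hmovex, ← move_conj, hcx.eq, mul_inv_cancel_right]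
  by_cases h2' : (2 : F) = 0
  · -- two involutions with different moved dimensions
    have hxx : x * x = 1 := gl_ext fun v => by
      rw [Transvec.mul_mulVec, Units.val_one, one_mulVec]
      have e1 := hxfix _ (hxD v)
      rw [mulVec_sub, sub_eq_iff_eq_add] at e1
      rw [e1, sub_add_eq_add_sub, ← two_smul F (x.val *ᵥ v), h2', zero_smul, zero_sub, ← neg_one_smul F v,
        show (-1 : F) = 1 by linear_combination -h2', one_smul]
    have hzz : z * z = 1 := gl_ext fun v => by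
      rw [Transvec.mul_mulVec, Units.val_one, one_mulVec]
      have e1 := hzfix _ (hzR v)
      rw [mulVec_sub, sub_eq_iff_eq_add] at e1
      rw [e1, sub_add_eq_add_sub, ← two_smul F (z.val *ᵥ v), h2', zero_smul, zero_sub, ← neg_one_smul F v,
        show (-1 : F) = 1 by linear_combination -h2', one_smul]
    obtain ⟨w, hw⟩ : ∃ w, w = x * z := ⟨_, rfl⟩
    have hxi : x⁻¹ = x := inv_eq_of_mul_eq_one_right hxx
    have hzi : z⁻¹ = z := inv_eq_of_mul_eq_one_right hzz
    have hwx : x * w * x = w⁻¹ := by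
      rw [hw, _root_.mul_inv_rev, hxi, hzi, ← mul_assoc, hxx, one_mul]
    have hwn : ∀ n : ℕ, x * w ^ n * x = (w ^ n)⁻¹ := fun n => by
      induction n with
      | zero => simp [hxx]
      | succ n ih =>
        rw [pow_succ, show x * (w ^ n * w) * x = (x * w ^ n * x) * (x * w * x) by
          simp only [mul_assoc]; rw [← mul_assoc x x, hxx, one_mul], ih, hwx, ← _root_.mul_inv_rev, ← pow_succ',
          pow_succ]
    rcases Nat.even_or_odd (orderOf w) with ⟨j, hj⟩ | ⟨j, hj⟩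
    · have hj0 : 0 < j := by have := orderOf_pos w; omega
      have hne : w ^ j ≠ 1 := fun h => by
        have := orderOf_le_of_pow_eq_one hj0 h
        omega
      have hinv : (w ^ j)⁻¹ = w ^ j := inv_eq_of_mul_eq_one_right (by rw [← pow_add, ← hj, pow_orderOf_eq_one])
      have hcx : Commute (w ^ j) x := by
        have e := hwn j
        rw [hinv] at e
        calc w ^ j * x = x * w ^ j * x * x := by rw [e]
          _ = x * w ^ j := by rw [mul_assoc, hxx, mul_one]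
      refine hcentral (Subgroup.pow_mem _ (hw ▸ mul_mem (Subgroup.subset_closure (by simp))
        (Subgroup.subset_closure (by simp))) j) hne hcx ?_
      have hcw : Commute (w ^ j) w := (Commute.refl w).pow_left j
      have := hcx.mul_right hcw
      rwa [show x * w = z by rw [hw, ← mul_assoc, hxx, one_mul]] at this
    · exfalso
      have hzc : z = w ^ j * x * (w ^ j)⁻¹ := by
        have e1 : x * w ^ j = (w ^ j)⁻¹ * x := by
          rw [← hwn j, mul_assoc (x * w ^ j), hxx, mul_one]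
        have e2 : w ^ j * x * (w ^ j)⁻¹ = w ^ (j + j) * x := by
          rw [mul_assoc, show x * (w ^ j)⁻¹ = w ^ j * x by
            rw [← hwn j, ← mul_assoc, ← mul_assoc, hxx, one_mul], ← mul_assoc, ← pow_add]
        have e3 : w ^ (j + j) = w⁻¹ := eq_inv_of_mul_eq_one_left (by
          rw [← pow_succ, show j + j + 1 = orderOf w by omega, pow_orderOf_eq_one])
        rw [e2, e3, hw, _root_.mul_inv_rev, hxi, hzi, mul_assoc, hxx, mul_one]
      have e1 : move z = img (w ^ j) (pureD b d) := by rw [hzc, move_conj, hmovex]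
      have e2 : move z = R := by rw [hz, move_conj, move_root C hu00 hu0 hc00, hR]
      have e3 : Module.finrank F (move z) = b := by rw [e1, finrank_img, finrank_pureD hd0]
      rw [e2, hR, finrank_img, finrank_pureW hu00] at e3
      omega
  -- odd characteristic
  obtain ⟨ZL, hZL⟩ : ∃ ZL : (Fin a × Fin b → F) →ₗ[F] (Fin a × Fin b → F), ∀ v, ZL v = z.val *ᵥ v - v :=
    ⟨Matrix.mulVecLin z.val - LinearMap.id, fun v => rfl⟩
  obtain ⟨T₀, hT₀⟩ : ∃ T₀ : Module.End F (pureD b d), ∀ p, (T₀ p : Fin a × Fin b → F) = XL (ZL p) :=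
    ⟨LinearMap.codRestrict _ ((XL.comp ZL).comp (pureD b d).subtype) (fun p => by
      change XL (ZL p) ∈ pureD b d
      rw [hXL]; exact hxD _), fun p => rfl⟩
  by_cases hT : IsNilpotent T₀
  · -- a central element of a p-group
    obtain ⟨N, hN⟩ := hT
    obtain ⟨p, hp⟩ := CharP.exists F
    haveI : Fact p.Prime := ⟨CharP.char_is_prime F p⟩
    haveI : Nonempty (Fin a × Fin b) := ⟨(⟨0, by have := C.dimA; omega⟩, ⟨0, by omega⟩)⟩
    have hsq : ∀ (W : Submodule F (Fin a × Fin b → F)) (y : GL (Fin a × Fin b) F), (∀ v, y.val *ᵥ v - v ∈ W) →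
        (∀ w ∈ W, y.val *ᵥ w = w) → (y.val - 1) * (y.val - 1) = 0 := fun W y h h' => Matrix.ext_iff_mulVec.2 fun v => by
      rw [← mulVec_mulVec, zero_mulVec, sub_mulVec, one_mulVec, sub_mulVec y.val, one_mulVec, h' _ (h v), sub_self]
    have hpowT : ∀ k (p : pureD b d),
        ((T₀ ^ k) p : Fin a × Fin b → F) = ((x.val - 1) * (z.val - 1)) ^ k *ᵥ (p : Fin a × Fin b → F) := fun k => by
      induction k with
      | zero => intro p; simp
      | succ k ih =>
        intro p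
        rw [pow_succ, Module.End.mul_apply, ih, pow_succ, ← mulVec_mulVec, hT₀, hXL, hZL]
        simp only [← mulVec_mulVec, sub_mulVec, one_mulVec]
    have hP := isPGroup_closure p (hsq _ x hxD hxfix) (hsq _ z hzR hzfix) (N := N + 1)
      (Matrix.ext_iff_mulVec.2 fun v => by
        have hmem : ((x.val - 1) * (z.val - 1)) *ᵥ v ∈ pureD b d := by
          rw [← mulVec_mulVec, sub_mulVec x.val, one_mulVec]; exact hxD _
        rw [pow_succ, ← mulVec_mulVec, zero_mulVec, ← hpowT N ⟨_, hmem⟩, hN]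
        rfl)
    haveI : Nontrivial (Subgroup.closure ({x, z} : Set (GL (Fin a × Fin b) F))) := by
      refine ⟨⟨⟨x, Subgroup.subset_closure (by simp)⟩, 1, fun h => ?_⟩⟩
      have hx1 : x = 1 := congrArg Subtype.val h
      have := finrank_pureD (b := b) hd0
      rw [← hmovex, hx1, show move (1 : GL (Fin a × Fin b) F) = ⊥ from (Submodule.eq_bot_iff _).mpr fun v hv => by
        obtain ⟨w, rfl⟩ := mem_move.mp hv; rw [Units.val_one, one_mulVec, sub_self], finrank_bot] at this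
      omega
    haveI := hP.center_nontrivial
    obtain ⟨⟨⟨h, hh⟩, hcen⟩, hne⟩ := exists_ne (1 : Subgroup.center
      (Subgroup.closure ({x, z} : Set (GL (Fin a × Fin b) F))))
    rw [Subgroup.mem_center_iff] at hcen
    refine hcentral hh (fun h1' => hne (Subtype.ext (Subtype.ext h1'))) ?_ ?_
    · exact (congrArg Subtype.val (hcen ⟨x, Subgroup.subset_closure (by simp)⟩)).symm
    · exact (congrArg Subtype.val (hcen ⟨z, Subgroup.subset_closure (by simp)⟩)).symm
  -- an involution fixing the pure subspace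
  obtain ⟨θ, hθ⟩ : ∃ θ : (pureD b d × pureD b d) →ₗ[F] (Fin a × Fin b → F),
      ∀ p q, θ (p, q) = ZL (p : Fin a × Fin b → F) + q :=
    ⟨(ZL.comp (pureD b d).subtype).comp (LinearMap.fst F _ _) +
      (pureD b d).subtype.comp (LinearMap.snd F _ _), fun p q => rfl⟩
  obtain ⟨Rep, hRep⟩ : ∃ Rep : Module.End F (pureD b d × pureD b d) → Prop, ∀ m, Rep m ↔
      ∃ h ∈ Subgroup.closure ({x, z} : Set (GL (Fin a × Fin b) F)), ∀ w, h.val *ᵥ θ w = θ (m w) :=
    ⟨_, fun m => Iff.rfl⟩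
  obtain ⟨α, hα2, hα1, m, hm, hmact⟩ := exists_scalar_involution_of_not_nilpotent h2' T₀ hT (Rep := Rep)
    ((hRep 1).mpr ⟨1, one_mem _, fun w => by rw [Units.val_one, one_mulVec]; rfl⟩)
    (fun m m' h h' => by
      obtain ⟨g₁, hg₁, e1⟩ := (hRep m).mp h
      obtain ⟨g₂, hg₂, e2⟩ := (hRep m').mp h'
      exact (hRep _).mpr ⟨g₁ * g₂, mul_mem hg₁ hg₂, fun w => by rw [Transvec.mul_mulVec, e2, e1]; rfl⟩)
    (fun m m' hmm _ h => by
      obtain ⟨g₁, hg₁, e1⟩ := (hRep m).mp h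
      refine (hRep m').mpr ⟨g₁⁻¹, inv_mem hg₁, fun w => mulVec_injective g₁ ?_⟩
      simp only
      rw [Transvec.mulVec_inv_cancel, e1, ← Module.End.mul_apply, hmm]
      rfl)
    (fun m hm => (hRep m).mpr ⟨z, Subgroup.subset_closure (by simp), fun w => by
      obtain ⟨p, q⟩ := w
      rw [hm, hθ, hθ, mulVec_add, Submodule.coe_add, map_add, hZL, hZL,
        hzfix _ (hzR p)]
      abel⟩)
    (fun m hm => (hRep m).mpr ⟨x, Subgroup.subset_closure (by simp), fun w => by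
      obtain ⟨p, q⟩ := w
      rw [hm, hθ, hθ, mulVec_add, Submodule.coe_add, hT₀, hXL, hxfix _ q.2]
      abel⟩)
  obtain ⟨h, hh, hhθ⟩ := (hRep m).mp hm
  have hhD : ∀ p : pureD b d, h.val *ᵥ (p : Fin a × Fin b → F) = (α p : Fin a × Fin b → F) := fun p => by
    have := hhθ (0, p)
    rw [hmact, hθ, hθ, map_zero, Submodule.coe_zero, map_zero, zero_add, zero_add] at this
    exact this
  obtain ⟨p₀, hp₀⟩ : ∃ p, α p ≠ p := by
    by_contra hall
    push Not at hall
    exact hα1 (LinearMap.ext hall)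
  have hne : h.val *ᵥ (p₀ : Fin a × Fin b → F) ≠ p₀ := fun e => hp₀ (Subtype.ext (by rw [← hhD, e]))
  refine kron_of_elem C hab hb hg hd0 hdd hu00 hu0 hc00 hc0 (hQ hh)
    (fun h1' => hne (by rw [h1', Units.val_one, one_mulVec])) ?_ (hR ▸ hmoved hh) (Or.inr ⟨_, p₀.2, hne⟩)
  refine Submodule.eq_of_le_of_finrank_eq (fun v hv => ?_) (finrank_img _ _)
  obtain ⟨p, hp, rfl⟩ := mem_img.mp hv
  rw [hhD ⟨p, hp⟩]
  exact (α ⟨p, hp⟩).2

/-- Every element is a tensor product. -/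
theorem kron_of_mem (hab : a < b) (hb : 4 ≤ b) {g : GL (Fin a × Fin b) F} (hg : g ∈ M) : IsKron g := by
  have T := C.tens
  obtain ⟨d, hd0, hdd⟩ := exists_iso T.left (by rw [Fintype.card_fin]; exact C.dimA)
  obtain ⟨u₀, hu00, hu0⟩ := exists_iso T.right (by rw [Fintype.card_fin]; exact C.dimB)
  obtain ⟨c₀, hc00, hc0⟩ := exists_skew T.left.ne_refl T.left.involutive
  rcases kron_or_perp C hab (by omega) hg hd0 hdd hu00 hu0 with hk | ⟨-, hex⟩
  · exact hk
  obtain ⟨u, hune, huu, hperp⟩ := hex hb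
  obtain ⟨z, hz⟩ : ∃ z, z = g * root a f₂ u₀ c₀ * g⁻¹ := ⟨_, rfl⟩
  have hzM : z ∈ M := hz ▸ mul_mem (mul_mem hg (root_mem' C hu0 hc0)) (inv_mem hg)
  refine kron_of_conj C hab hg hu00 hu0 hc00 (hz ▸ (kron_or_perp C hab (by omega) hzM hd0 hdd hune huu).resolve_right ?_)
  rintro ⟨hbot, -⟩
  have hfix : z.val *ᵥ pt d u = pt d u := by
    rw [hz, Transvec.mul_mulVec, Transvec.mul_mulVec, root, T.root_apply hu0, mulVec_add,
      Transvec.mulVec_inv_cancel, add_eq_left, show ctr f₂ u₀ (g⁻¹.val *ᵥ pt d u) = 0 from ?_, pt_zero_left,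
      smul_zero, mulVec_zero]
    by_contra hne
    obtain ⟨y, hy⟩ := (T.left.nondegenerate _ hne).2
    refine hy ?_
    rw [← T.f_pt, ← C.iso hg, Transvec.mulVec_inv_cancel]
    exact (eq_zero_comm T.uni).1 (hperp _ (mem_img.mpr ⟨_, pt_mem_pureW _ _, rfl⟩))
  have hmem : pt d u ∈ pureD b d ⊓ img z (pureW a u) :=
    ⟨pt_mem_pureD d u, mem_img.mpr ⟨_, pt_mem_pureW d u, hfix⟩⟩
  rw [hbot, Submodule.mem_bot] at hmem
  exact hune (ptR_injective hd0 (hmem.trans (pt_zero_right d).symm))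

end CfsgLib.Classical22.TensorMax.UnitT
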