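/-
Every element of the group is a tensor product when the factors have dimensions two and three.
-/
import Cfsg.Agent.Lib.Classical22.UnitTensor.Engine

set_option autoImplicit false
set_option linter.unusedSectionVars false
set_option maxHeartbeats 800000

namespace CfsgLib.Classical22.TensorMax.UnitT

open Matrix Kronecker CfsgLib.Transvec CfsgLib.Transvec.Unitary CfsgLib.Classical22.TensorMax.SympO
open CfsgLib.Classical22.TensorMax.SpO (kr kr_apply isKron_kr)
open scoped MatrixGroups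

variable {F : Type*} [Field F] [Fintype F] {a b : ℕ} {σ : F ≃+* F}
  {f : (Fin a × Fin b → F) → (Fin a × Fin b → F) → F} {f₁ : (Fin a → F) → (Fin a → F) → F}
  {f₂ : (Fin b → F) → (Fin b → F) → F} {M : Subgroup (GL (Fin a × Fin b) F)}

variable (C : Ctx σ f f₁ f₂ M)
include C

/-- An element carrying one pure vector with isotropic components to another is a tensor product. -/
theorem kron_of_point (hab : a < b) (hb : 3 ≤ b) {g : GL (Fin a × Fin b) F} (hg : g ∈ M) {d d₀ : Fin a → F}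
    {u u₀ : Fin b → F} (hd : d ≠ 0) (hdd : f₁ d d = 0) (hu : u ≠ 0) (hu₀ : u₀ ≠ 0) (huu₀ : f₂ u₀ u₀ = 0)
    {k : F} (hk : k ≠ 0) (h : g.val *ᵥ pt d₀ u₀ = k • pt d u) : IsKron g := by
  refine (kron_or_perp C hab hb hg hd hdd hu₀ huu₀).resolve_right fun ⟨hbot, _⟩ => ?_
  have hmem : k • pt d u ∈ pureD b d ⊓ img g (pureW a u₀) :=
    ⟨Submodule.smul_mem _ _ (pt_mem_pureD d u), mem_img.mpr ⟨_, pt_mem_pureW d₀ u₀, h⟩⟩
  rw [hbot, Submodule.mem_bot, smul_eq_zero, or_iff_right hk] at hmem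
  exact hu (ptR_injective hd (hmem.trans (pt_zero_right d).symm))

/-- Every isotropic vector of the second factor is orthogonal to the image of a pure anisotropic plane. -/
theorem exists_pure_image (ha : a = 2) (hb : b = 3) {l : F} (hl : l * σ l = 1) (hl3 : l ^ 3 ≠ 1)
    {g : GL (Fin a × Fin b) F} (hg : g ∈ M) (hgK : ¬ IsKron g) {u : Fin b → F} (hu0 : u ≠ 0) (huu : f₂ u u = 0) :
    ∃ w w' : Fin b → F, w' ≠ 0 ∧ f₂ w w ≠ 0 ∧ f₂ w' w' ≠ 0 ∧ f₂ w' u = 0 ∧
      img g (pureW a w) = pureW a w' := by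
  classical
  have T := C.tens
  have hf := T.uni
  have h1 := T.left
  have h2 := T.right
  have hab : a < b := by omega
  obtain ⟨d, hd0, hdd⟩ := exists_iso h1 (by rw [Fintype.card_fin]; exact C.dimA)
  obtain ⟨d', hd', hd'd, hdd'⟩ := exists_partner h1 hd0 hdd
  obtain ⟨o, ho⟩ : ∃ o, o = g⁻¹.val *ᵥ pt d u := ⟨_, rfl⟩
  have hgo : g.val *ᵥ o = pt d u := by rw [ho, Transvec.mulVec_inv_cancel]
  obtain ⟨φ, hφ⟩ : ∃ φ : (Fin b → F) →ₗ[F] F × F, ∀ w, φ w = (f (pt d w) o, f (pt d' w) o) :=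
    ⟨((linL hf o).comp (ptR d)).prod ((linL hf o).comp (ptR d')), fun w => rfl⟩
  obtain ⟨w₀, hw₀, hw₀0⟩ := (LinearMap.ker φ).exists_mem_ne_zero_of_ne_bot fun h => by
    have e1 := LinearMap.finrank_range_add_finrank_ker φ
    have e2 := Submodule.finrank_le (LinearMap.range φ)
    rw [h, finrank_bot, Module.finrank_fin_fun] at e1
    rw [Module.finrank_prod, Module.finrank_self] at e2
    omega
  rw [LinearMap.mem_ker, hφ, Prod.mk_eq_zero] at hw₀
  -- the contraction vanishes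
  have hctr : ctr f₂ w₀ o = 0 := by
    by_contra hne
    have hA : ∀ y : Fin a → F, ∃ i j : F, y = i • d + j • d' := by
      obtain ⟨ψ, hψ⟩ : ∃ ψ : (Fin 2 → F) →ₗ[F] (Fin a → F), ∀ c, ψ c = c 0 • d + c 1 • d' :=
        ⟨(LinearMap.proj 0).smulRight d + (LinearMap.proj 1).smulRight d', fun c => rfl⟩
      have hinj : Function.Injective ψ := (injective_iff_map_eq_zero ψ).2 fun c hc => by
        rw [hψ] at hc
        have e1 := congrArg (fun z => f₁ z d') hc
        have e2 := congrArg (fun z => f₁ z d) hc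
        simp only [h1.add_left, h1.smul_left, hdd', hd', hdd, hd'd, zero_left' h1, mul_one, mul_zero, add_zero,
          zero_add] at e1 e2
        funext i
        fin_cases i
        exacts [e1, e2]
      intro y
      obtain ⟨c, hc⟩ := (LinearMap.injective_iff_surjective_of_finrank_eq_finrank
        (by rw [Module.finrank_fin_fun, Module.finrank_fin_fun, ha])).1 hinj y
      exact ⟨c 0, c 1, by rw [← hc, hψ]⟩
    obtain ⟨y, hy⟩ := (h1.nondegenerate _ hne).2
    obtain ⟨i, j, rfl⟩ := hA y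
    refine hy ?_
    rw [Unitary.add_right' h1, smul_right' h1, smul_right' h1, ← T.f_pt, ← T.f_pt, (eq_zero_comm hf).1 hw₀.1,
      (eq_zero_comm hf).1 hw₀.2, mul_zero, mul_zero, add_zero]
  have hperp : ∀ y, f (pt d u) (g.val *ᵥ pt y w₀) = 0 := fun y => by
    rw [← hgo, C.iso hg, T.f_pt, hctr, zero_left' h1]
  have hpd : pt d u ≠ 0 := fun h => hu0 (ptR_injective hd0 (h.trans (pt_zero_right d).symm))
  by_cases hww : f₂ w₀ w₀ = 0
  · -- an isotropic one gives a fixed point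
    exfalso
    obtain ⟨s, hs0, hs⟩ := exists_skew h1.ne_refl h1.involutive
    obtain ⟨z, hz⟩ : ∃ z, z = g * root a f₂ w₀ s * g⁻¹ := ⟨_, rfl⟩
    have hzM : z ∈ M := hz ▸ mul_mem (mul_mem hg (root_mem' C hww hs)) (inv_mem hg)
    refine hgK (kron_of_conj C hab hg hw₀0 hww hs0 (hz ▸ kron_of_point C hab (by omega) hzM hd0 hdd hu0 hu0 huu
      one_ne_zero (d₀ := d) ?_))
    rw [hz, Transvec.mul_mulVec, Transvec.mul_mulVec, ← ho, root, T.root_apply hww, hctr, pt_zero_left, smul_zero,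
      add_zero, hgo, one_smul]
  -- a reflection at the unit vector
  obtain ⟨t, ht⟩ := exists_norm_eq h1.ne_refl h1.involutive (b := (f₂ w₀ w₀)⁻¹)
    (by rw [map_inv₀, self_fixed h2])
  have ht0 : t ≠ 0 := fun h0 => by
    rw [h0, zero_mul] at ht
    exact hww (inv_eq_zero.1 ht.symm)
  obtain ⟨w, hw⟩ : ∃ w, w = t • w₀ := ⟨_, rfl⟩
  have hw1 : f₂ w w = 1 := by rw [hw, h2.smul_left, smul_right' h2, ← mul_assoc, ht, inv_mul_cancel₀ hww]
  have hw0 : w ≠ 0 := hw ▸ smul_ne_zero ht0 hw₀0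
  have hctr' : ctr f₂ w o = 0 := by rw [hw, T.ctr_smul, hctr, smul_zero]
  obtain ⟨m, hm⟩ : ∃ m, m = σ (l ^ 3) := ⟨_, rfl⟩
  have hl0 : l ≠ 0 := left_ne_zero_of_mul_eq_one hl
  have hm3 : l ^ 3 * m = 1 := by rw [hm, map_pow, ← mul_pow, hl, one_pow]
  have hmm : m * σ m = 1 := by rw [hm, h1.involutive, mul_comm, ← hm, hm3]
  have hm1 : m ≠ 1 := fun h => hl3 (by rw [h, mul_one] at hm3; exact hm3)
  obtain ⟨R, hR⟩ : ∃ R, R = kr (1 : GL (Fin a) F) (qR f₂ w m) := ⟨_, rfl⟩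
  obtain ⟨G, hG⟩ : ∃ G : (Fin a → F) →ₗ[F] (Fin a → F), ∀ x, G x = l • x := ⟨l • LinearMap.id, fun x => rfl⟩
  have hGinj : Function.Injective G := fun x y h => smul_right_injective _ hl0 (by rw [hG, hG] at h; exact h)
  obtain ⟨S, hS⟩ : ∃ S, S = kr (CfsgLib.Classical22.TensorMax.SpO.glOfLin G hGinj : GL (Fin a) F)
      (1 : GL (Fin b) F) := ⟨_, rfl⟩
  have hRv : ∀ v, R.val *ᵥ v = v + (m - 1) • pt (ctr f₂ w v) w := fun v =>
    Eq.trans (Matrix.mulVecLin_apply _ _).symm <| LinearMap.congr_fun (lin_ext (L := Matrix.mulVecLin R.val)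
      (L' := LinearMap.id + (m - 1) • (ptL w).comp (ctr f₂ w)) fun x z => by
        change R.val *ᵥ pt x z = pt x z + (m - 1) • pt (ctr f₂ w (pt x z)) w
        rw [hR, kr_apply, Units.val_one, one_mulVec, qR_mulVec h2 hw1 hmm, T.ctr_pt, pt_add_right, pt_smul_right,
          pt_smul_left, smul_smul]) v
  have hSv : ∀ v, S.val *ᵥ v = l • v := fun v =>
    Eq.trans (Matrix.mulVecLin_apply _ _).symm <| LinearMap.congr_fun (lin_ext (L := Matrix.mulVecLin S.val)
      (L' := l • LinearMap.id) fun x z => by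
        change S.val *ᵥ pt x z = l • pt x z
        rw [hS, kr_apply, CfsgLib.Classical22.TensorMax.SpO.glOfLin_mulVec, Units.val_one, one_mulVec, hG,
          pt_smul_left]) v
  have hRS : R * S ∈ M := by
    refine C.le _ ((Cfsg.Geo.kroneckerSubgroup a b F).mul_mem (hR ▸ isKron_kr _ _) (hS ▸ isKron_kr _ _))
      (fun v z => ?_) ?_
    · have hRi : Iso f R := hR ▸ T.iso_kr (m := 1) (n := 1) (fun x y => by rw [Units.val_one, one_mulVec, one_mulVec,
        one_mul]) (fun x y => by rw [one_mul]; exact iso_qR h2 hw1 hmm x y) (one_mul 1)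
      rw [Transvec.mul_mulVec, Transvec.mul_mulVec, hRi, hSv, hSv, hf.smul_left, smul_right' hf, ← mul_assoc, hl,
        one_mul]
    · have hSval : S.val = Matrix.scalar (Fin a × Fin b) l := Matrix.ext_iff_mulVec.2 fun v => by
        rw [hSv]; simp [Matrix.scalar_apply, funext_iff, Matrix.mulVec_diagonal]
      rw [Units.val_mul, det_mul, hR, det_kr, det_qR h2 hw1 hmm, hSval]
      simp only [Units.val_one, det_one, one_pow, one_mul, Matrix.scalar_apply, det_diagonal, Finset.prod_const,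
        Finset.card_univ, Fintype.card_prod, Fintype.card_fin, ha, hb]
      linear_combination (m * l ^ 3 + 1) * hm3
  have hfix : (g * (R * S) * g⁻¹).val *ᵥ pt d u = l • pt d u := by
    rw [Transvec.mul_mulVec, Transvec.mul_mulVec, ← ho, Transvec.mul_mulVec, hSv, hRv, map_smul, hctr', smul_zero,
      pt_zero_left, smul_zero, add_zero, mulVec_smul, hgo]
  have hK := kron_of_point C hab (by omega) (mul_mem (mul_mem hg hRS) (inv_mem hg)) hd0 hdd hu0 hu0 huu hl0 hfix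
  have hKR : IsKron (g * R * g⁻¹) := by
    have hcomm : S * g⁻¹ = g⁻¹ * S := gl_ext fun v => by
      rw [Transvec.mul_mulVec, Transvec.mul_mulVec, hSv, hSv, mulVec_smul]
    have e : g * R * g⁻¹ = g * (R * S) * g⁻¹ * S⁻¹ := by
      rw [mul_assoc (g * (R * S)), mul_assoc g (R * S), mul_assoc R S, ← mul_assoc S, hcomm, mul_assoc g⁻¹,
        mul_inv_cancel, mul_one, mul_assoc]
    rw [e]
    exact (Cfsg.Geo.kroneckerSubgroup a b F).mul_mem hK
      ((Cfsg.Geo.kroneckerSubgroup a b F).inv_mem (hS ▸ isKron_kr _ _))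
  have hmoveR : move R = pureW a w := by
    refine le_antisymm (fun v hv => ?_) ?_
    · obtain ⟨z, rfl⟩ := mem_move.mp hv
      rw [hRv, add_sub_cancel_left]
      exact Submodule.smul_mem _ _ (pt_mem_pureW _ _)
    · rintro _ ⟨y, rfl⟩
      exact mem_move.mpr ⟨pt ((m - 1)⁻¹ • y) w, by
        rw [hRv, add_sub_cancel_left, T.ctr_pt, hw1, one_smul, ← pt_smul_left, smul_inv_smul₀ (sub_ne_zero.2 hm1)]
        rfl⟩
  have hmv : move (g * R * g⁻¹) = img g (pureW a w) := by rw [move_conj, hmoveR]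
  have hdim : Module.finrank F (move (g * R * g⁻¹)) = a := by rw [hmv, finrank_img, finrank_pureW hw0]
  obtain ⟨w', hw'0, hw'⟩ := move_kron hab hKR (fun h => by
    rw [h, show move (1 : GL (Fin a × Fin b) F) = ⊥ from (Submodule.eq_bot_iff _).mpr fun v hv => by
      obtain ⟨z, rfl⟩ := mem_move.mp hv; rw [Units.val_one, one_mulVec, sub_self], finrank_bot] at hdim
    omega) hdim.le
  rw [hmv] at hw'
  have hpre : ∀ y, ∃ x, g.val *ᵥ pt x w = pt y w' := fun y => by
    obtain ⟨_, ⟨x, rfl⟩, hx⟩ := mem_img.mp (hw'.symm ▸ pt_mem_pureW y w' : pt y w' ∈ img g (pureW a w))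
    exact ⟨x, hx⟩
  refine ⟨w, w', hw'0, hw1 ▸ one_ne_zero, fun h0 => ?_, ?_, hw'⟩
  · obtain ⟨y, hy⟩ : ∃ y : Fin a → F, f₁ y y ≠ 0 := by
      obtain ⟨c, hc⟩ := exists_trace_ne_zero h1.ne_refl
      exact ⟨d' + c • d, fun h => hc (by
        simp only [h1.add_left, h1.smul_left, Unitary.add_right' h1, smul_right' h1, hd', hdd, hd'd, hdd'] at h
        linear_combination h)⟩
    obtain ⟨y', hy'⟩ : g.val *ᵥ pt y w ∈ pureW a w' := hw' ▸ mem_img.mpr ⟨_, pt_mem_pureW y w, rfl⟩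
    have := C.iso hg (pt y w) (pt y w)
    rw [← hy', ptL_apply, T.pure, T.pure, hw1, h0, mul_zero, mul_one] at this
    exact hy this.symm
  · obtain ⟨x, hx⟩ := hpre d'
    have := hperp (t • x)
    rw [pt_smul_left, ← pt_smul_right, ← hw, hx, T.pure, hdd', one_mul] at this
    exact (eq_zero_comm h2).1 this

/-- Every element is a tensor product, the factors having dimensions two and three. -/
theorem kron_of_mem_small (ha : a = 2) (hb : b = 3) {l : F} (hl : l * σ l = 1) (hl3 : l ^ 3 ≠ 1)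
    {g : GL (Fin a × Fin b) F} (hg : g ∈ M) : IsKron g := by
  classical
  by_contra hgK
  have T := C.tens
  have h1 := T.left
  have h2 := T.right
  have hda : 2 ≤ Fintype.card (Fin a) := by rw [Fintype.card_fin]; omega
  have hdb : 2 ≤ Fintype.card (Fin b) := by rw [Fintype.card_fin]; omega
  -- two images that are not orthogonal give a point
  have key : ∀ w₁ w₁' w₂ w₂', f₂ w₁' w₁' ≠ 0 → img g (pureW a w₁) = pureW a w₁' →
      img g (pureW a w₂) = pureW a w₂' → f₂ w₁ w₁ ≠ 0 → w₂' ∉ Submodule.span F ({w₁'} : Set (Fin b → F)) →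
      f₂ w₁' w₂' ≠ 0 → False := by
    intro w₁ w₁' w₂ w₂' hn' hi₁ hi₂ hn hind hne
    have himg : ∀ {w w'}, img g (pureW a w) = pureW a w' → ∀ y, ∃ y', g.val *ᵥ pt y w = pt y' w' := fun {w w'} h y => by
      obtain ⟨y', hy'⟩ : g.val *ᵥ pt y w ∈ pureW a w' := h ▸ mem_img.mpr ⟨_, pt_mem_pureW y w, rfl⟩
      exact ⟨y', hy'.symm⟩
    choose P hP using himg hi₁
    choose Q hQ using himg hi₂
    have hgi := C.iso hg
    have eP : ∀ x y, f₁ (P x) (P y) * f₂ w₁' w₁' = f₁ x y * f₂ w₁ w₁ := fun x y => by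
      rw [← T.pure, ← T.pure, ← hP, ← hP, hgi]
    have eQ : ∀ x y, f₁ (P x) (Q y) * f₂ w₁' w₂' = f₁ x y * f₂ w₁ w₂ := fun x y => by
      rw [← T.pure, ← T.pure, ← hP, ← hQ, hgi]
    have hPsurj : ∀ y, ∃ x, P x = y := fun y => by
      have hw1 : w₁' ≠ 0 := fun h => hn' (by rw [h, zero_left' h2])
      obtain ⟨_, ⟨x, rfl⟩, hx⟩ := mem_img.mp (hi₁.symm ▸ pt_mem_pureW y w₁' : pt y w₁' ∈ img g (pureW a w₁))
      rw [ptL_apply, hP] at hx
      exact ⟨x, pt_injective hw1 hx⟩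
    obtain ⟨κ, hκ⟩ : ∃ κ, κ = f₂ w₁ w₂ * f₂ w₁' w₁' / (f₂ w₁' w₂' * f₂ w₁ w₁) := ⟨_, rfl⟩
    have hQP : ∀ y, Q y = σ κ • P y := fun y => by
      by_contra hny
      obtain ⟨z, hz⟩ := (h1.nondegenerate _ (sub_ne_zero.2 hny)).1
      obtain ⟨x, rfl⟩ := hPsurj z
      refine hz ?_
      rw [sub_right' h1, smul_right' h1, h1.involutive, hκ, sub_eq_zero, div_mul_eq_mul_div,
        eq_div_iff (mul_ne_zero hne hn)]
      linear_combination f₂ w₁ w₁ * eQ x y - f₂ w₁ w₂ * eP x y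
    have hcomb : ∀ (i j : F) (y : Fin a → F), g.val *ᵥ pt y (i • w₁ + j • w₂) = pt (P y) (i • w₁' + (j * σ κ) • w₂') := fun i j y => by
      simp only [pt_add_right, pt_smul_right, mulVec_add, mulVec_smul, hP, hQ, hQP, pt_smul_left, smul_smul]
    have hw12 : w₂ ∉ Submodule.span F ({w₁} : Set (Fin b → F)) := fun hm => by
      obtain ⟨j, rfl⟩ := Submodule.mem_span_singleton.1 hm
      obtain ⟨d, hd0, -⟩ := exists_iso h1 hda
      obtain ⟨z, hz⟩ := (h1.nondegenerate _ hd0).2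
      obtain ⟨x, hx⟩ := hPsurj d
      have e := hQ x
      rw [pt_smul_right, mulVec_smul, hP, hx, hQP, hx, pt_smul_left, ← pt_smul_right, ← pt_smul_right] at e
      have e' := ptR_injective hd0 (show ptR d (j • w₁') = ptR d (σ κ • w₂') from e)
      by_cases hk : σ κ = 0
      · rw [hk, zero_smul, smul_eq_zero, or_iff_left (fun h => hn' (by rw [h, zero_left' h2]))] at e'
        subst e'
        have e0 := hQ d
        rw [zero_smul, pt_zero_right, mulVec_zero] at e0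
        have hw2' : w₂' ≠ 0 := fun h => hind (h ▸ Submodule.zero_mem _)
        obtain ⟨_, ⟨x', rfl⟩, hx'⟩ := mem_img.mp (hi₂.symm ▸ pt_mem_pureW d w₂' : pt d w₂' ∈ img g (pureW a ((0 : F) • w₁)))
        rw [ptL_apply, zero_smul, pt_zero_right, mulVec_zero] at hx'
        exact hd0 (pt_injective hw2' (hx'.symm.trans (pt_zero_left w₂').symm))
      · refine hind (Submodule.mem_span_singleton.2 ⟨(σ κ)⁻¹ * j, ?_⟩)
        rw [← smul_smul, e', inv_smul_smul₀ hk]
    obtain ⟨u₀, hu₀U, hu₀0, hu₀⟩ := exists_iso_mem h2 (U := Submodule.span F ({w₁, w₂} : Set (Fin b → F))) (by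
      have hlt : Submodule.span F ({w₁} : Set (Fin b → F)) < Submodule.span F {w₁, w₂} :=
        lt_of_le_of_ne (Submodule.span_mono (by simp)) fun h => hw12 (h ▸ Submodule.subset_span (by simp))
      have := Submodule.finrank_lt_finrank_of_lt hlt
      rw [finrank_span_singleton (fun h => hn (by rw [h, zero_left' h2]))] at this
      omega)
    obtain ⟨i, j, rfl⟩ := Submodule.mem_span_pair.1 hu₀U
    obtain ⟨u', hu'⟩ : ∃ u', u' = i • w₁' + (j * σ κ) • w₂' := ⟨_, rfl⟩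
    obtain ⟨d, hd0, hdd⟩ := exists_iso h1 hda
    obtain ⟨x, hx⟩ := hPsurj d
    have hg0 : g.val *ᵥ pt x (i • w₁ + j • w₂) = pt d u' := by rw [hcomb, hx, hu']
    have hx0 : x ≠ 0 := fun h => hd0 (by
      have e := hP x
      rw [hx, h, pt_zero_left, mulVec_zero] at e
      exact pt_injective (fun h' => hn' (by rw [h', zero_left' h2])) (e.symm.trans (pt_zero_left w₁').symm))
    have hu'0 : u' ≠ 0 := fun h => hu₀0 (ptR_injective hx0 (mulVec_injective g (by
      change g.val *ᵥ pt x (i • w₁ + j • w₂) = g.val *ᵥ pt x (0 : Fin b → F)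
      rw [hg0, h, pt_zero_right, pt_zero_right, mulVec_zero])))
    exact hgK (kron_of_point C (by omega) (by omega) hg hd0 hdd hu'0 hu₀0 hu₀ one_ne_zero
      (by rw [hg0, one_smul]))
  have get := fun {u : Fin b → F} (hu0 : u ≠ 0) (huu : f₂ u u = 0) =>
    exists_pure_image C ha hb hl hl3 hg hgK hu0 huu
  obtain ⟨u₁, hu10, hu1⟩ := exists_iso h2 hdb
  obtain ⟨w₁, w₁', hw10, hn1, hn1', -, hi1⟩ := get hu10 hu1
  have nspan : ∀ {u w w' : Fin b → F}, f₂ u w ≠ 0 → f₂ w' u = 0 → w' ≠ 0 →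
      w' ∉ Submodule.span F ({w} : Set (Fin b → F)) := fun {u w w'} hne h0 hw' hm => by
    obtain ⟨j, rfl⟩ := Submodule.mem_span_singleton.1 hm
    rw [h2.smul_left, mul_eq_zero] at h0
    rcases h0 with h0 | h0
    · exact hw' (by rw [h0, zero_smul])
    · exact hne ((eq_zero_comm h2).1 h0)
  obtain ⟨u₂, hu2, hu2ne⟩ := exists_iso_ne h2 hdb hw10
  obtain ⟨w₂, w₂', hw20, hn2, hn2', hw2u, hi2⟩ := get (fun h => hu2ne (by rw [h, zero_left' h2])) hu2
  by_cases h12 : f₂ w₁' w₂' = 0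
  swap
  · exact key _ _ _ _ hn1' hi1 hi2 hn1 (nspan hu2ne hw2u hw20) h12
  obtain ⟨u₃, hu3, hu3a, hu3b⟩ := exists_iso_ne_two h2 hdb hw10 hw20
  obtain ⟨w₃, w₃', hw30, hn3, hn3', hw3u, hi3⟩ := get (fun h => hu3a (by rw [h, zero_left' h2])) hu3
  by_cases h13 : f₂ w₁' w₃' = 0
  swap
  · exact key _ _ _ _ hn1' hi1 hi3 hn1 (nspan hu3a hw3u hw30) h13
  by_cases h23 : f₂ w₂' w₃' = 0
  swap
  · exact key _ _ _ _ hn2' hi2 hi3 hn2 (nspan hu3b hw3u hw30) h23
  -- an orthogonal frame and an isotropic vector off all three lines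
  have h21 := (eq_zero_comm h2).1 h12
  have h31 := (eq_zero_comm h2).1 h13
  have h32 := (eq_zero_comm h2).1 h23
  obtain ⟨k, hk, hk0, hk1⟩ := C.hyp.resolve_right (by omega)
  obtain ⟨r, hr⟩ : ∃ r, r = -f₂ w₃' w₃' := ⟨_, rfl⟩
  have hr0 : r ≠ 0 := hr ▸ neg_ne_zero.2 hn3'
  have hσr : σ r = r := by rw [hr, map_neg, self_fixed h2]
  obtain ⟨a₁, ha₁⟩ := exists_norm_eq h1.ne_refl h1.involutive (b := k * r / f₂ w₁' w₁')
    (by rw [map_div₀, map_mul, hk, hσr, self_fixed h2])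
  obtain ⟨a₂, ha₂⟩ := exists_norm_eq h1.ne_refl h1.involutive (b := (1 - k) * r / f₂ w₂' w₂')
    (by rw [map_div₀, map_mul, map_sub, map_one, hk, hσr, self_fixed h2])
  rw [eq_div_iff hn1'] at ha₁
  rw [eq_div_iff hn2'] at ha₂
  have ha10 : a₁ ≠ 0 := fun h => mul_ne_zero hk0 hr0 (by rw [← ha₁, h]; ring)
  have ha20 : a₂ ≠ 0 := fun h => mul_ne_zero (sub_ne_zero.2 (Ne.symm hk1)) hr0 (by rw [← ha₂, h]; ring)
  obtain ⟨u, hu⟩ : ∃ u, u = a₁ • w₁' + a₂ • w₂' + w₃' := ⟨_, rfl⟩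
  have hua : f₂ u w₁' ≠ 0 := by
    rw [hu, h2.add_left, h2.add_left, h2.smul_left, h2.smul_left, h21, h31, mul_zero, add_zero, add_zero]
    exact mul_ne_zero ha10 hn1'
  have hub : f₂ u w₂' ≠ 0 := by
    rw [hu, h2.add_left, h2.add_left, h2.smul_left, h2.smul_left, h12, h32, mul_zero, zero_add, add_zero]
    exact mul_ne_zero ha20 hn2'
  have huc : f₂ u w₃' ≠ 0 := by
    rw [hu, h2.add_left, h2.add_left, h2.smul_left, h2.smul_left, h13, h23, mul_zero, mul_zero, zero_add, zero_add]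
    exact hn3'
  obtain ⟨w₄, w₄', hw40, hn4, hn4', hw4u, hi4⟩ := @get u (fun h => hua (by rw [h, zero_left' h2])) (by
    simp only [hu, h2.add_left, h2.smul_left, Unitary.add_right' h2, smul_right' h2, h12, h21, h13, h31, h23, h32]
    linear_combination ha₁ + ha₂ + hr)
  by_cases h14 : f₂ w₁' w₄' = 0
  swap
  · exact key _ _ _ _ hn1' hi1 hi4 hn1 (nspan hua hw4u hw40) h14
  by_cases h24 : f₂ w₂' w₄' = 0
  swap
  · exact key _ _ _ _ hn2' hi2 hi4 hn2 (nspan hub hw4u hw40) h24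
  by_cases h34 : f₂ w₃' w₄' = 0
  swap
  · exact key _ _ _ _ hn3' hi3 hi4 hn3 (nspan huc hw4u hw40) h34
  obtain ⟨ψ, hψ⟩ : ∃ ψ : (Fin 3 → F) →ₗ[F] (Fin b → F), ∀ c, ψ c = c 0 • w₁' + c 1 • w₂' + c 2 • w₃' :=
    ⟨(LinearMap.proj 0).smulRight w₁' + (LinearMap.proj 1).smulRight w₂' + (LinearMap.proj 2).smulRight w₃',
      fun c => rfl⟩
  have hinj : Function.Injective ψ := (injective_iff_map_eq_zero ψ).2 fun c hc => by
    rw [hψ] at hc
    have e1 := congrArg (fun z => f₂ z w₁') hc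
    have e2 := congrArg (fun z => f₂ z w₂') hc
    have e3 := congrArg (fun z => f₂ z w₃') hc
    simp only [h2.add_left, h2.smul_left, h12, h21, h13, h31, h23, h32, zero_left' h2, mul_zero, add_zero,
      zero_add] at e1 e2 e3
    funext i
    fin_cases i
    exacts [(mul_eq_zero.1 e1).resolve_right hn1', (mul_eq_zero.1 e2).resolve_right hn2',
      (mul_eq_zero.1 e3).resolve_right hn3']
  obtain ⟨c, hc⟩ := (LinearMap.injective_iff_surjective_of_finrank_eq_finrank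
    (by rw [Module.finrank_fin_fun, Module.finrank_fin_fun, hb])).1 hinj w₄'
  refine hn4' ?_
  conv_lhs => arg 1; rw [← hc, hψ]
  rw [h2.add_left, h2.add_left, h2.smul_left, h2.smul_left, h2.smul_left, h14, h24, h34]
  ring

end CfsgLib.Classical22.TensorMax.UnitT
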