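/-
Maximality of the stabiliser of a tensor decomposition in the special unitary group.
-/
import Cfsg.Agent.Lib.Classical22.UnitTensor.Small
import Cfsg.Agent.Lib.Classical22.TensorMaxTransport
import Cfsg.Agent.Lib.Transvec.HermForm

set_option autoImplicit false
set_option linter.unusedSectionVars false
set_option maxHeartbeats 800000

namespace CfsgLib.Classical22.TensorMax.UnitT

open Matrix Kronecker CfsgLib.Transvec CfsgLib.Transvec.Unitary CfsgLib.Classical22.TensorMax.SympO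
open scoped MatrixGroups

variable {F : Type*} [Field F] [Fintype F]

/-- Some transvection is not a tensor product. -/
lemma exists_uT_not_kron {a b : ℕ} {σ : F ≃+* F} {f : (Fin a × Fin b → F) → (Fin a × Fin b → F) → F}
    {f₁ : (Fin a → F) → (Fin a → F) → F} {f₂ : (Fin b → F) → (Fin b → F) → F} (T : Tens σ f f₁ f₂) (ha : 2 ≤ a)
    (hab : a < b) : ∃ v c, f v v = 0 ∧ c + σ c = 0 ∧ ¬ IsKron (uT f v c) := by
  obtain ⟨d, hd0, hdd⟩ := exists_iso T.left (by rw [Fintype.card_fin]; exact ha)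
  obtain ⟨e, he0, hee⟩ := exists_iso T.right (by rw [Fintype.card_fin]; omega)
  obtain ⟨c, hc0, hc⟩ := exists_skew T.uni.ne_refl T.uni.involutive
  obtain ⟨p, hp⟩ : ∃ p, p = pt d e := ⟨_, rfl⟩
  have hpp : f p p = 0 := by rw [hp, T.pure, hdd, zero_mul]
  have hp0 : p ≠ 0 := fun h => hd0 (pt_eq_zero he0 (hp ▸ h))
  refine ⟨p, c, hpp, hc, fun hK => ?_⟩
  have hle : move (uT f p c) ≤ Submodule.span F {p} := fun v hv => by
    obtain ⟨w, rfl⟩ := mem_move.mp hv
    rw [uT_mulVec T.uni hpp, add_sub_cancel_left]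
    exact Submodule.smul_mem _ _ (Submodule.mem_span_singleton_self p)
  have hdim := (Submodule.finrank_mono hle).trans (le_of_eq (finrank_span_singleton hp0))
  obtain ⟨y, hy⟩ := exists_dual T.uni hp0 1
  obtain ⟨u, hu, hmv⟩ := move_kron hab hK (fun h => by
    have e1 := congrArg (fun g : GL (Fin a × Fin b) F => g.val *ᵥ y) h
    simp only [uT_mulVec T.uni hpp, hy, mul_one, Units.val_one, one_mulVec, add_eq_left, smul_eq_zero] at e1
    exact e1.elim hc0 hp0) (hdim.trans (by omega))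
  rw [hmv, finrank_pureW hu] at hdim
  omega

/-- An element of norm one whose cube is not one. -/
lemma exists_unit_cube {q : ℕ} (hF : Fintype.card F = q ^ 2) {σ : F ≃+* F} (hσ : ∀ x, σ x = x ^ q) (hq : 3 ≤ q) :
    ∃ l : F, l * σ l = 1 ∧ l ^ 3 ≠ 1 := by
  classical
  obtain ⟨g, hg⟩ := IsCyclic.exists_ofOrder_eq_natCard (α := Fˣ)
  rw [Nat.card_units, Nat.card_eq_fintype_card, hF] at hg
  obtain ⟨r, rfl⟩ : ∃ r, q = r + 1 := ⟨q - 1, by omega⟩
  have he : (r + 1) ^ 2 - 1 = r * (r + 2) := by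
    rw [show (r + 1) ^ 2 = r * (r + 2) + 1 by ring, Nat.add_sub_cancel]
  rw [he] at hg
  refine ⟨((g ^ r : Fˣ) : F), ?_, fun h => ?_⟩
  · rw [hσ, ← pow_succ', ← Units.val_pow_eq_pow_val, ← pow_mul, show r * (r + 1 + 1) = orderOf g by rw [hg],
      pow_orderOf_eq_one, Units.val_one]
  · rw [← Units.val_pow_eq_pow_val, Units.val_eq_one, ← pow_mul] at h
    have hle := orderOf_le_of_pow_eq_one (by omega) h
    rw [hg] at hle
    nlinarith [show 2 ≤ r by omega]

/-- The statement, the second factor having dimension at least four or the dimensions being two and three. -/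
theorem isMaximalIn_unitaryTensor_of (n q : ℕ) (hF : Fintype.card F = q ^ 2) (n₁ n₂ : ℕ) (h1 : 2 ≤ n₁)
    (h12 : n₁ < n₂) (h4 : 4 ≤ n₂ ∨ (n₁ = 2 ∧ n₂ = 3)) (hex : ¬ (n₁ = 2 ∧ q = 2)) (e : Fin n ≃ Fin n₁ × Fin n₂) (P : GL (Fin n) F)
    {g₁ : (Fin n₁ → F) → (Fin n₁ → F) → F} {g₂ : (Fin n₂ → F) → (Fin n₂ → F) → F}
    (hg₁ : Cfsg.Geo.IsUnitaryFormPow q g₁) (hg₂ : Cfsg.Geo.IsUnitaryFormPow q g₂)
    (hT : Cfsg.Geo.IsTensorFormStructure (fun x : F => x ^ q) (Cfsg.hermForm n F q) g₁ g₂ e P) :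
    Cfsg.Geo.IsMaximalIn (Cfsg.GU n F q ⊓ Cfsg.Geo.specialLinear (Fin n) F)
      (Cfsg.Geo.tensorProductSubgroup n₁ n₂ e P ⊓ (Cfsg.GU n F q ⊓ Cfsg.Geo.specialLinear (Fin n) F)) := by
  classical
  obtain ⟨σ, hσ, hinv, hne⟩ := exists_frob hF
  have hcard : n = n₁ * n₂ := by simpa [Fintype.card_prod] using Fintype.card_congr e
  have hF' := isUnitaryForm_hermForm (n := n) hσ hinv hne
  have hunit : ∀ {k : ℕ} {g : (Fin k → F) → (Fin k → F) → F}, Cfsg.Geo.IsUnitaryFormPow q g →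
      Cfsg.Geo.IsUnitaryForm σ g := fun {k g} hg =>
    ⟨hne, hinv, hg.add_left, hg.smul_left, fun v w => by rw [hσ]; exact hg.herm v w, hg.nondegenerate⟩
  have h₁ := hunit hg₁
  have h₂ := hunit hg₂
  obtain ⟨c, hc, hpol⟩ := hT
  obtain ⟨L, hL⟩ : ∃ L : (Fin n₁ × Fin n₂ → F) →ₗ[F] (Fin n → F), ∀ x, L x = P.val *ᵥ (x ∘ e) :=
    ⟨(Matrix.mulVecLin P.val).comp (LinearMap.funLeft F F e), fun x => rfl⟩
  have hsurj : ∀ v, ∃ x, v = L x := fun v => ⟨(P⁻¹.val *ᵥ v) ∘ e.symm, by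
    rw [hL, Function.comp_assoc, e.symm_comp_self, Function.comp_id, Transvec.mulVec_inv_cancel]⟩
  have hLinj : Function.Injective L := fun x y h => by
    rw [hL, hL] at h
    exact e.surjective.injective_comp_right (Transvec.mulVec_injective P h)
  have hpure : ∀ x u y w, Cfsg.hermForm n F q (L (pt x u)) (L (pt y w)) = g₁ x y * (c * g₂ u w) := fun x u y w => by
    rw [hL, hL, hpol, show pt x u = (fun p : Fin n₁ × Fin n₂ => x p.1 * u p.2) from rfl,
      show pt y w = (fun p : Fin n₁ × Fin n₂ => y p.1 * w p.2) from rfl,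
      TensorRefine.formOfGram_kronecker (fun x : F => x ^ q) (fun _ _ => mul_pow _ _ _),
      ← TensorRefine.form_eq (σ := fun x : F => x ^ q) h₁.add_left h₁.smul_left (Unitary.add_right' h₁)
        (fun c v x => by rw [smul_right' h₁, hσ]),
      ← TensorRefine.form_eq (σ := fun x : F => x ^ q) h₂.add_left h₂.smul_left (Unitary.add_right' h₂)
        (fun c v x => by rw [smul_right' h₂, hσ])]
    ring
  have hσc : σ c = c := by
    obtain ⟨x, hx⟩ : ∃ x : Fin n₁ → F, x ≠ 0 := ⟨Pi.single ⟨0, by omega⟩ 1, by simp⟩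
    obtain ⟨u, hu⟩ : ∃ u : Fin n₂ → F, u ≠ 0 := ⟨Pi.single ⟨0, by omega⟩ 1, by simp⟩
    obtain ⟨y, hy⟩ := (h₁.nondegenerate x hx).2
    obtain ⟨w, hw⟩ := (h₂.nondegenerate u hu).2
    have e1 := hF'.herm (L (pt x u)) (L (pt y w))
    rw [hpure, hpure, map_mul, map_mul, ← h₁.herm, ← h₂.herm] at e1
    exact (mul_right_cancel₀ hw (mul_left_cancel₀ hy e1)).symm
  obtain ⟨f₂, hf₂⟩ : ∃ f₂ : (Fin n₂ → F) → (Fin n₂ → F) → F, ∀ u w, f₂ u w = c * g₂ u w := ⟨_, fun u w => rfl⟩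
  have hr : Cfsg.Geo.IsUnitaryForm σ f₂ :=
    ⟨hne, hinv, fun x y v => by simp only [hf₂, h₂.add_left, mul_add],
      fun t x v => by simp only [hf₂, h₂.smul_left]; ring,
      fun v w => by simp only [hf₂, map_mul, hσc, ← h₂.herm],
      fun v hv => ⟨(h₂.nondegenerate v hv).1.imp fun x h => by rw [hf₂]; exact mul_ne_zero hc h,
        (h₂.nondegenerate v hv).2.imp fun x h => by rw [hf₂]; exact mul_ne_zero hc h⟩⟩
  obtain ⟨f, hf⟩ : ∃ f : (Fin n₁ × Fin n₂ → F) → (Fin n₁ × Fin n₂ → F) → F,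
      ∀ v w, f v w = Cfsg.hermForm n F q (L v) (L w) := ⟨_, fun v w => rfl⟩
  have huni : Cfsg.Geo.IsUnitaryForm σ f :=
    ⟨hne, hinv, fun x y v => by simp only [hf, map_add, hF'.add_left],
      fun t x v => by simp only [hf, map_smul, hF'.smul_left],
      fun v w => by simp only [hf]; exact hF'.herm _ _,
      fun v hv => by
        obtain ⟨⟨x, hx⟩, ⟨y, hy⟩⟩ := hF'.nondegenerate (L v) (fun h => hv (hLinj (h.trans (map_zero L).symm)))
        obtain ⟨x', rfl⟩ := hsurj x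
        obtain ⟨y', rfl⟩ := hsurj y
        exact ⟨⟨x', by rwa [hf]⟩, ⟨y', by rwa [hf]⟩⟩⟩
  have T : Tens σ f g₁ f₂ := ⟨huni, h₁, hr, fun x u y w => by rw [hf, hpure, hf₂]⟩
  have hact : ∀ g x, (coordEquiv e P g).val *ᵥ L x = L (g.val *ᵥ x) := fun g x => by
    rw [hL, hL, coordEquiv_mulVec]
  have hdet : ∀ g, coordEquiv e P g ∈ Cfsg.Geo.specialLinear (Fin n) F ↔ g.val.det = 1 := fun g => by
    rw [← map_specialLinear e P, Subgroup.mem_map_equiv, MulEquiv.symm_apply_apply, mem_specialLinear_iff]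
  have hiso : ∀ g, coordEquiv e P g ∈ Cfsg.GU n F q ↔ Iso f g := fun g => by
    rw [mem_GU_iff]
    constructor
    · intro h v w
      rw [hf, hf, ← hact, ← hact]
      exact h _ _
    · intro h v w
      obtain ⟨x, rfl⟩ := hsurj v
      obtain ⟨y, rfl⟩ := hsurj w
      rw [hact, hact, ← hf, ← hf]
      exact h x y
  have hkr : ∀ g, IsKron g → coordEquiv e P g ∈ Cfsg.Geo.tensorProductSubgroup n₁ n₂ e P := fun g hg =>
    map_kronecker e P ▸ ⟨g, hg, rfl⟩
  refine ⟨lt_of_le_of_ne inf_le_right fun heq => ?_, fun M hHM hMK => ?_⟩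
  · obtain ⟨v, t, hv, ht, hnk⟩ := exists_uT_not_kron T h1 h12
    have hmem : coordEquiv e P (uT f v t) ∈ Cfsg.GU n F q ⊓ Cfsg.Geo.specialLinear (Fin n) F :=
      ⟨(hiso _).mpr (iso_uT huni hv ht), (hdet _).mpr ((mem_specialLinear_iff _).mp
        (transv_mem_specialLinear v (t • uvec f v)))⟩
    have h := (heq.ge hmem).1
    rw [← map_kronecker e P] at h
    obtain ⟨g, hg, hge⟩ := h
    exact hnk ((coordEquiv e P).injective hge ▸ hg)
  obtain ⟨M₀, hM₀⟩ : ∃ M₀, M₀ = M.comap (coordEquiv e P).toMonoidHom := ⟨_, rfl⟩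
  by_cases hall : ∀ v, f v v = 0 → UFull σ f M₀ v
  · right
    refine le_antisymm hMK (SU_le_of_transv hσ hinv hne (by rw [hcard]; nlinarith) fun v hv t ht => ?_)
    obtain ⟨x, rfl⟩ := hsurj v
    have hx : f x x = 0 := by rw [hf]; exact hv
    have hm := (hall x hx).2 t ht
    rw [hM₀, Subgroup.mem_comap] at hm
    have e1 : (coordEquiv e P).toMonoidHom (uT f x t) = uT (Cfsg.hermForm n F q) (L x) t := gl_ext fun w => by
      obtain ⟨y, rfl⟩ := hsurj w
      change (coordEquiv e P (uT f x t)).val *ᵥ L y = _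
      rw [hact, uT_mulVec huni hx, uT_mulVec hF' hv, map_add, map_smul, hf]
    rwa [e1] at hm
  · left
    have hyp : (∃ k : F, σ k = k ∧ k ≠ 0 ∧ k ≠ 1) ∨ 3 ≤ n₁ ∧ 3 ≤ n₂ := by
      by_cases hn : 3 ≤ n₁
      · exact Or.inr ⟨hn, by omega⟩
      refine Or.inl ?_
      by_contra hno
      push Not at hno
      have hq : q ≠ 2 := fun h => hex ⟨by omega, h⟩
      have hq2 : 2 ≤ q := by
        have := Fintype.one_lt_card (α := F)
        rw [hF] at this
        by_contra h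
        interval_cases q <;> simp at this
      obtain ⟨g, hg⟩ := IsCyclic.exists_ofOrder_eq_natCard (α := Fˣ)
      rw [Nat.card_units, Nat.card_eq_fintype_card, hF] at hg
      obtain ⟨k, hk⟩ : ∃ k : F, k = (g : F) ^ (q + 1) := ⟨_, rfl⟩
      have hk0 : k ≠ 0 := hk ▸ pow_ne_zero _ g.ne_zero
      have hfix : σ k = k := by
        rw [hk, hσ, ← pow_mul, show (q + 1) * q = (q + 1) + (q ^ 2 - 1) by
          obtain ⟨r, rfl⟩ : ∃ r, q = r + 1 := ⟨q - 1, by omega⟩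
          rw [show (r + 1) ^ 2 = (r * r + 2 * r) + 1 by ring, Nat.add_sub_cancel]
          ring, pow_add, ← hg, ← Units.val_pow_eq_pow_val g (orderOf g), pow_orderOf_eq_one, Units.val_one, mul_one]
      have h' : g ^ (q + 1) = 1 := Units.ext (by
        rw [Units.val_pow_eq_pow_val, ← hk, hno k hfix hk0, Units.val_one])
      have hle := orderOf_le_of_pow_eq_one (by omega) h'
      rw [hg] at hle
      have : q + 2 < q ^ 2 := by nlinarith [show 3 ≤ q by omega]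
      omega
    have C : Ctx σ f g₁ f₂ M₀ :=
      ⟨T, h1, by omega, by omega, hyp, fun g hk hi hd => hM₀ ▸ hHM ⟨hkr g hk, (hiso g).mpr hi, (hdet g).mpr hd⟩,
        fun g hg => by
          rw [hM₀] at hg
          exact ⟨(hiso g).mp (hMK hg).1, (hdet g).mp (hMK hg).2⟩, hall⟩
    refine le_antisymm (fun g hg => ?_) hHM
    obtain ⟨g₀, rfl⟩ := (coordEquiv e P).surjective g
    have hg₀ : g₀ ∈ M₀ := by rw [hM₀]; exact hg
    refine ⟨hkr g₀ ?_, hMK hg⟩
    rcases h4 with h4 | ⟨ha, hb⟩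
    · exact kron_of_mem C h12 h4 hg₀
    · obtain ⟨l, hl, hl3⟩ := exists_unit_cube hF hσ (by
        have hq : q ≠ 2 := fun h => hex ⟨ha, h⟩
        have := Fintype.one_lt_card (α := F)
        rw [hF] at this
        by_contra h
        interval_cases q <;> simp_all)
      exact kron_of_mem_small C ha hb hl hl3 hg₀

/-- The statement for a bijection of index sets, a change of basis and forms given with powers. -/
theorem isMaximalIn_unitaryTensor (n q : ℕ) (hF : Fintype.card F = q ^ 2) (n₁ n₂ : ℕ) (h1 : 2 ≤ n₁)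
    (h12 : n₁ < n₂) (h4 : 4 ≤ n₂) (hex : ¬ (n₁ = 2 ∧ q = 2)) (e : Fin n ≃ Fin n₁ × Fin n₂) (P : GL (Fin n) F)
    {g₁ : (Fin n₁ → F) → (Fin n₁ → F) → F} {g₂ : (Fin n₂ → F) → (Fin n₂ → F) → F}
    (hg₁ : Cfsg.Geo.IsUnitaryFormPow q g₁) (hg₂ : Cfsg.Geo.IsUnitaryFormPow q g₂)
    (hT : Cfsg.Geo.IsTensorFormStructure (fun x : F => x ^ q) (Cfsg.hermForm n F q) g₁ g₂ e P) :
    Cfsg.Geo.IsMaximalIn (Cfsg.GU n F q ⊓ Cfsg.Geo.specialLinear (Fin n) F)
      (Cfsg.Geo.tensorProductSubgroup n₁ n₂ e P ⊓ (Cfsg.GU n F q ⊓ Cfsg.Geo.specialLinear (Fin n) F)) :=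
  isMaximalIn_unitaryTensor_of n q hF n₁ n₂ h1 h12 (Or.inl h4) hex e P hg₁ hg₂ hT

end CfsgLib.Classical22.TensorMax.UnitT
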